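import Mathlib

/-!
# Binary affine groups: basic lemmas (S5753)

`H` acts linearly on a finite abelian group `V` of exponent `p`, and the affine group `V ⋊ H`
is binary.
-/

set_option autoImplicit false

open scoped Pointwise

namespace Cfsg.Agent.BinaryAffine

variable {H : Type*} [Group H] {V : Type} [AddCommGroup V] [DistribMulAction H V]

/-- The endomorphism `h - 1`. -/
def mv (h : H) : V →+ V where
  toFun v := h • v - v
  map_zero' := by simp
  map_add' a b := by rw [smul_add]; abel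

@[simp] lemma mv_apply (h : H) (v : V) : mv h v = h • v - v := rfl

variable (V) in
/-- Fixed points of `h`. -/
def fx (h : H) : AddSubgroup V := (mv h).ker

variable (V) in
/-- Image of `h - 1`. -/
def im (h : H) : AddSubgroup V := (mv h).range

lemma mem_fx {h : H} {v : V} : v ∈ fx V h ↔ h • v = v := by
  simp [fx, AddMonoidHom.mem_ker, sub_eq_zero]

lemma mem_im {h : H} {d : V} : d ∈ im V h ↔ ∃ x, h • x - x = d := by
  simp [im, AddMonoidHom.mem_range]

lemma sub_mem_im (h : H) (x : V) : h • x - x ∈ im V h := mem_im.2 ⟨x, rfl⟩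

lemma card_fx_mul_im (h : H) :
    Nat.card (fx V h) * Nat.card (im V h) = Nat.card V := by
  rw [AddSubgroup.card_eq_card_quotient_mul_card_addSubgroup (fx V h), mul_comm]
  congr 1
  exact (Nat.card_congr (QuotientAddGroup.quotientKerEquivRange (mv (V := V) h)).toEquiv).symm

lemma smul_mem_im_self (h : H) {d : V} (hd : d ∈ im V h) : h • d ∈ im V h := by
  obtain ⟨x, rfl⟩ := mem_im.1 hd
  rw [smul_sub]
  exact sub_mem_im h _

lemma fx_conj (h g : H) (v : V) : v ∈ fx V (h * g * h⁻¹) ↔ h⁻¹ • v ∈ fx V g := by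
  rw [mem_fx, mem_fx, mul_smul, mul_smul]
  constructor
  · intro e
    conv_rhs => rw [← e]
    simp
  · intro e
    rw [e]; simp

lemma im_conj (h g : H) (v : V) : v ∈ im V (h * g * h⁻¹) ↔ h⁻¹ • v ∈ im V g := by
  constructor
  · intro hv
    obtain ⟨x, rfl⟩ := mem_im.1 hv
    refine mem_im.2 ⟨h⁻¹ • x, ?_⟩
    simp [smul_sub, mul_smul]
  · intro hv
    obtain ⟨x, hx⟩ := mem_im.1 hv
    refine mem_im.2 ⟨h • x, ?_⟩
    have : v = h • (g • x - x) := by rw [hx]; simp
    rw [this]
    simp [smul_sub, mul_smul]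

section Card

variable [Finite V]

lemma card_sup_mul_card_inf (A B : AddSubgroup V) :
    Nat.card ↥(A ⊔ B) * Nat.card ↥(A ⊓ B) = Nat.card A * Nat.card B := by
  let φ : A × B →+ V := (A.subtype.coprod B.subtype)
  have hr : φ.range = A ⊔ B := by
    ext v
    simp [φ, AddSubgroup.mem_sup, AddMonoidHom.mem_range]
  have hk : Nat.card φ.ker = Nat.card ↥(A ⊓ B) := by
    refine Nat.card_congr
      { toFun := fun x => ⟨(x.1.1 : V), x.1.1.2, ?_⟩
        invFun := fun v => ⟨(⟨v.1, v.2.1⟩, ⟨-v.1, B.neg_mem v.2.2⟩), by simp [φ, AddMonoidHom.mem_ker]⟩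
        left_inv := ?_
        right_inv := fun v => rfl }
    · have h := x.2
      simp only [φ, AddMonoidHom.mem_ker, AddMonoidHom.coprod_apply,
        AddSubgroup.coe_subtype] at h
      have h2 : (x.1.1 : V) = -(x.1.2 : V) := eq_neg_of_add_eq_zero_left h
      rw [h2]; exact B.neg_mem x.1.2.2
    · rintro ⟨⟨a, b⟩, h⟩
      simp only [φ, AddMonoidHom.mem_ker, AddMonoidHom.coprod_apply,
        AddSubgroup.coe_subtype] at h
      ext
      · rfl
      · exact (eq_neg_of_add_eq_zero_right h).symm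
  rw [← hr, ← hk, ← Nat.card_prod A B, AddSubgroup.card_eq_card_quotient_mul_card_addSubgroup φ.ker,
    Nat.card_congr (QuotientAddGroup.quotientKerEquivRange φ).toEquiv]

lemma eq_of_le_of_card_le {A B : AddSubgroup V} (h : A ≤ B) (hc : Nat.card B ≤ Nat.card A) :
    A = B := by
  apply SetLike.coe_injective
  exact Set.eq_of_subset_of_ncard_le h (by simpa [← Nat.card_coe_set_eq] using hc)

lemma sup_eq_top_of_card {A B : AddSubgroup V} (hd : A ⊓ B = ⊥)
    (hc : Nat.card V ≤ Nat.card A * Nat.card B) : A ⊔ B = ⊤ := by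
  apply eq_of_le_of_card_le le_top
  have := card_sup_mul_card_inf A B
  rw [hd, AddSubgroup.card_bot, mul_one] at this
  rw [AddSubgroup.card_top, this]
  exact hc

lemma card_mul_le_of_disjoint {A B : AddSubgroup V} (hd : A ⊓ B = ⊥) :
    Nat.card A * Nat.card B ≤ Nat.card V := by
  have := card_sup_mul_card_inf A B
  rw [hd, AddSubgroup.card_bot, mul_one] at this
  rw [← this]
  exact Nat.card_le_card_of_injective _ Subtype.val_injective

lemma card_fx_lt {g k : H} (h : fx V g ≤ fx V k) (hne : ¬ fx V k ≤ fx V g) :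
    Nat.card (fx V g) < Nat.card (fx V k) := by
  by_contra hc
  exact hne (eq_of_le_of_card_le h (not_lt.1 hc)).ge

end Card

/-- Binary condition for a subgroup `L` acting on `V` (with the origin as one of the points). -/
def Bin (V : Type) [AddCommGroup V] [DistribMulAction H V] (L : Subgroup H) : Prop :=
  ∀ P : Set (V × V), (∀ x ∈ P, ∃ h ∈ L, h • x.1 = x.2) →
    (∀ x ∈ P, ∀ y ∈ P, ∃ h ∈ L, h • (x.1 - y.1) = x.2 - y.2) →
    ∃ h ∈ L, ∀ x ∈ P, h • x.1 = x.2

/-- Use of the binary condition, main goal first. -/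
lemma Bin.elim' {L : Subgroup H} (hb : Bin V L) {C : Prop} (P : Set (V × V))
    (k : ∀ h ∈ L, (∀ x ∈ P, h • x.1 = x.2) → C)
    (h1 : ∀ x ∈ P, ∃ h ∈ L, h • x.1 = x.2)
    (h2 : ∀ x ∈ P, ∀ y ∈ P, ∃ h ∈ L, h • (x.1 - y.1) = x.2 - y.2) : C :=
  let ⟨h, hL, hh⟩ := hb P h1 h2
  k h hL hh

/-- Heredity: the pointwise stabiliser of a set inherits binarity. -/
lemma Bin.fixing (hb : Bin V (⊤ : Subgroup H)) (X : Set V) :
    Bin V (fixingSubgroup H X) := by
  intro P h1 h2
  refine hb.elim' (P ∪ (fun x => (x, x)) '' X) (fun h _ hh => ?_) ?_ ?_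
  · refine ⟨h, (mem_fixingSubgroup_iff H).2 fun x hx => ?_, fun x hx => hh x (Or.inl hx)⟩
    exact hh (x, x) (Or.inr ⟨x, hx, rfl⟩)
  · rintro x (hx | ⟨y, hy, rfl⟩)
    · obtain ⟨h, -, hh⟩ := h1 x hx
      exact ⟨h, trivial, hh⟩
    · exact ⟨1, trivial, one_smul _ _⟩
  · rintro x (hx | ⟨x, hx, rfl⟩) y (hy | ⟨y, hy, rfl⟩)
    · obtain ⟨h, -, hh⟩ := h2 x hx y hy
      exact ⟨h, trivial, hh⟩
    · obtain ⟨h, hL, hh⟩ := h1 x hx
      exact ⟨h, trivial, by rw [smul_sub, hh, (mem_fixingSubgroup_iff H).1 hL y hy]⟩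
    · obtain ⟨h, hL, hh⟩ := h1 y hy
      exact ⟨h, trivial, by rw [smul_sub, hh, (mem_fixingSubgroup_iff H).1 hL x hx]⟩
    · exact ⟨1, trivial, one_smul _ _⟩

/-- F2: a regular vector forces exponent two. -/
lemma Bin.sq_eq_one {L : Subgroup H} (hb : Bin V L) {b : V}
    (hreg : ∀ l ∈ L, l • b = b → l = 1) {h : H} (hh : h ∈ L) : h * h = 1 := by
  refine hb.elim' {(b, (h * h) • b), (h • b + b, h • b + (h * h) • b)} (fun G hG hGP => ?_) ?_ ?_
  · have e1 : G • b = (h * h) • b := hGP (b, (h * h) • b) (Or.inl rfl)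
    have hG2 : G = h * h := by
      have := hreg ((h * h)⁻¹ * G) (L.mul_mem (L.inv_mem (L.mul_mem hh hh)) hG)
        (by rw [mul_smul, e1, inv_smul_smul])
      exact (inv_mul_eq_one.1 this).symm
    have e2 : G • (h • b + b) = h • b + (h * h) • b :=
      hGP (h • b + b, h • b + (h * h) • b) (Or.inr rfl)
    rw [hG2, smul_add, add_left_inj, mul_smul, smul_left_cancel_iff, ← mul_smul] at e2
    exact hreg _ (L.mul_mem hh hh) (smul_left_cancel h (by rw [e2]))
  · rintro x (rfl | rfl)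
    · exact ⟨h * h, L.mul_mem hh hh, rfl⟩
    · exact ⟨h, hh, by rw [smul_add, mul_smul]; abel⟩
  · rintro x (rfl | rfl) y (rfl | rfl)
    · exact ⟨1, L.one_mem, by simp⟩
    · exact ⟨1, L.one_mem, by simp⟩
    · exact ⟨1, L.one_mem, by simp⟩
    · exact ⟨1, L.one_mem, by simp⟩

/-- Standing hypotheses. -/
structure Ctx (H : Type*) (V : Type) [Group H] [AddCommGroup V] [DistribMulAction H V] (p : ℕ) :
    Prop where
  prime : p.Prime
  char : ∀ v : V, p • v = 0
  bin : Bin V (⊤ : Subgroup H)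
  irred : ∀ W : AddSubgroup V, (∀ h : H, ∀ w ∈ W, h • w ∈ W) → W = ⊥ ∨ W = ⊤

namespace Ctx

variable {p : ℕ} (c : Ctx H V p)
include c

/-- F1: a single element translates all of `A_d` by `d`. -/
lemma exists_shift (d : V) :
    ∃ G : H, ∀ (u : V) (l : H), l • u = u + d → G • u = u + d := by
  refine c.bin.elim' {x | x.2 = x.1 + d ∧ ∃ l : H, l • x.1 = x.2} (fun G _ hG => ?_) ?_ ?_
  · exact ⟨G, fun u l hl => hG (u, u + d) ⟨rfl, l, hl⟩⟩
  · rintro x ⟨-, l, hl⟩; exact ⟨l, trivial, hl⟩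
  · rintro x ⟨hx, -⟩ y ⟨hy, -⟩
    exact ⟨1, trivial, by rw [hx, hy, one_smul]; abel⟩

/-- SYM: differences are symmetric. -/
lemma exists_neg {h : H} {b d : V} (hd : h • b - b = d) : ∃ g : H, g • d = -d := by
  refine c.bin.elim' {(h • b, h • b), (h • b + b, h • (h • b + b))} (fun g _ hg => ?_) ?_ ?_
  · have e1 : g • h • b = h • b := hg (h • b, h • b) (Or.inl rfl)
    have e2 : g • (h • b + b) = h • (h • b + b) :=
      hg (h • b + b, h • (h • b + b)) (Or.inr rfl)
    refine ⟨g⁻¹ * h, ?_⟩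
    have e3 : g • b = h • h • b := by
      rw [smul_add, e1, smul_add] at e2
      exact (add_left_cancel (e2.trans (add_comm _ _)) : _)
    rw [mul_smul, inv_smul_eq_iff, ← hd, smul_neg, smul_sub, smul_sub, e1, e3]
    abel
  · rintro x (rfl | rfl)
    · exact ⟨1, trivial, one_smul _ _⟩
    · exact ⟨h, trivial, rfl⟩
  · rintro x (rfl | rfl) y (rfl | rfl)
    · exact ⟨1, trivial, by simp⟩
    · exact ⟨h * h, trivial, by simp only [mul_smul, smul_sub, smul_add]; abel⟩
    · exact ⟨h * h, trivial, by simp only [mul_smul, smul_sub, smul_add]; abel⟩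
    · exact ⟨1, trivial, by simp⟩

lemma nsmul_ne_zero {n : ℕ} (hn : ¬ p ∣ n) {v : V} (hv : v ≠ 0) : n • v ≠ 0 := by
  intro h
  have h1 : addOrderOf v ∣ n := addOrderOf_dvd_of_nsmul_eq_zero h
  have h2 : addOrderOf v ∣ p := addOrderOf_dvd_of_nsmul_eq_zero (c.char v)
  rcases (Nat.dvd_prime c.prime).1 h2 with h3 | h3
  · exact hv (AddMonoid.addOrderOf_eq_one_iff.1 h3)
  · exact hn (h3 ▸ h1)

lemma neg_eq_self (hp : p = 2) (v : V) : -v = v := by
  have := c.char v
  rw [hp, two_nsmul] at this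
  exact (eq_neg_of_add_eq_zero_left this).symm

lemma two_nsmul_ne_zero (hp : p ≠ 2) {v : V} (hv : v ≠ 0) : v + v ≠ 0 := by
  rw [← two_nsmul]
  exact c.nsmul_ne_zero (fun h => hp ((Nat.prime_dvd_prime_iff_eq c.prime Nat.prime_two).1 h)) hv

/-- U: no unipotent steps in odd characteristic. -/
lemma unip_false (hp : p ≠ 2) {u : H} {y d : V} (hd : u • y - y = d) (hd0 : d ≠ 0)
    (hud : u • d = d) : False := by
  obtain ⟨s, hs⟩ := c.exists_neg hd
  have hk : ∀ k : ℕ, (u ^ k) • y = y + k • d := by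
    intro k
    induction k with
    | zero => simp
    | succ k ih =>
      have hy : u • y = y + d := by rw [← hd]; abel
      rw [pow_succ', mul_smul, ih, smul_add, smul_comm, hud, hy, succ_nsmul']
      abel
  have hkd : ∀ k : ℕ, (u ^ k) • d = d := by
    intro k
    induction k with
    | zero => simp
    | succ k ih => rw [pow_succ, mul_smul, hud, ih]
  have h2 : (p - 2) • d = -(d + d) := by
    rw [eq_neg_iff_add_eq_zero, ← two_nsmul, ← add_nsmul,
      Nat.sub_add_cancel c.prime.two_le, c.char]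
  refine c.bin.elim' {(d, d), (y, y), (y + d, y - d)} (fun g _ hg => ?_) ?_ ?_
  · have e1 : g • d = d := hg (d, d) (Or.inl rfl)
    have e2 : g • y = y := hg (y, y) (Or.inr (Or.inl rfl))
    have e3 : g • (y + d) = y - d := hg (y + d, y - d) (Or.inr (Or.inr rfl))
    rw [smul_add, e1, e2, sub_eq_add_neg, add_right_inj, eq_neg_iff_add_eq_zero] at e3
    exact c.two_nsmul_ne_zero hp hd0 e3
  · rintro x (rfl | rfl | rfl)
    · exact ⟨1, trivial, one_smul _ _⟩
    · exact ⟨1, trivial, one_smul _ _⟩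
    · exact ⟨u ^ (p - 2), trivial, by rw [smul_add, hk, hkd, h2]; abel⟩
  · rintro x (rfl | rfl | rfl) z (rfl | rfl | rfl)
    · exact ⟨1, trivial, one_smul _ _⟩
    · exact ⟨1, trivial, one_smul _ _⟩
    · exact ⟨u ^ (p - 2), trivial, by rw [smul_sub, smul_add, hk, hkd, h2]; module⟩
    · exact ⟨1, trivial, one_smul _ _⟩
    · exact ⟨1, trivial, one_smul _ _⟩
    · refine ⟨s, trivial, ?_⟩
      show s • (y - (y + d)) = y - (y - d)
      rw [sub_add_cancel_left, smul_neg, hs]
      abel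
    · exact ⟨u ^ (p - 2), trivial, by rw [smul_sub, smul_add, hk, hkd, h2]; module⟩
    · refine ⟨s, trivial, ?_⟩
      show s • (y + d - y) = y - d - y
      rw [add_sub_cancel_left, hs]
      abel
    · exact ⟨1, trivial, by simp⟩

/-- In odd characteristic `p` is prime to `|H|`. -/
lemma not_dvd_card [Finite H] [Finite V] [FaithfulSMul H V] (hp : p ≠ 2) :
    ¬ p ∣ Nat.card H := by
  intro hdvd
  have : Fact p.Prime := ⟨c.prime⟩
  obtain ⟨u, hu⟩ := exists_prime_orderOf_dvd_card' p hdvd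
  let S : SubMulAction (Subgroup.zpowers u) V :=
    { carrier := (im V u : Set V)
      smul_mem' := by
        rintro ⟨l, hl⟩ v hv
        obtain ⟨x, rfl⟩ := mem_im.1 hv
        refine mem_im.2 ⟨l • x, ?_⟩
        obtain ⟨n, rfl⟩ := Subgroup.mem_zpowers_iff.1 hl
        show u • u ^ n • x - u ^ n • x = u ^ n • (u • x - x)
        rw [smul_sub, ← mul_smul, ← mul_smul, (Commute.self_zpow u n).eq] }
  have hG : IsPGroup p (Subgroup.zpowers u) :=
    IsPGroup.of_card (n := 1) (by rw [Nat.card_zpowers, hu, pow_one])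
  obtain ⟨x, hx⟩ : ∃ x : V, u • x ≠ x := by
    by_contra! hall
    have : u = 1 := FaithfulSMul.eq_of_smul_eq_smul fun v : V => by rw [hall v, one_smul]
    rw [this, orderOf_one] at hu
    exact c.prime.ne_one hu.symm
  have hne : (⟨_, sub_mem_im u x⟩ : S) ≠ ⟨0, AddSubgroup.zero_mem (im V u)⟩ := fun e =>
    hx (sub_eq_zero.1 (congrArg Subtype.val e))
  have hpS : p ∣ Nat.card S := by
    have : Nat.card S = Nat.card (im V u) := rfl
    rw [this]
    have : addOrderOf (⟨_, sub_mem_im u x⟩ : im V u) = p :=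
      addOrderOf_eq_prime (Subtype.ext (by simp [c.char]))
        (fun e => hx (sub_eq_zero.1 (congrArg Subtype.val e)))
    exact this ▸ addOrderOf_dvd_natCard _
  obtain ⟨w, hw, hw0⟩ := hG.exists_fixed_point_of_prime_dvd_card_of_fixed_point S hpS
    (a := ⟨0, AddSubgroup.zero_mem (im V u)⟩) (fun l => Subtype.ext (smul_zero (l : H)))
  obtain ⟨y, hy⟩ := mem_im.1 w.2
  refine c.unip_false hp hy ?_ (congrArg Subtype.val (hw ⟨u, Subgroup.mem_zpowers u⟩))
  intro e
  exact hw0 (Subtype.ext e.symm)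

/-- Coprimality: a vector fixed by `a, b` inside `im a + im b` vanishes. -/
lemma eq_zero_of_fixed [Finite H] [Finite V] [FaithfulSMul H V] (hp : p ≠ 2) {a b : H} {v : V}
    (ha : a • v = v) (hb : b • v = v) (hv : v ∈ im V a ⊔ im V b) : v = 0 := by
  classical
  let L : Subgroup H := Subgroup.closure {a, b}
  have : Fintype L := Fintype.ofFinite _
  let avg : V →+ V := ∑ l : L, DistribSMul.toAddMonoidHom V (l : H)
  have havg : ∀ v : V, avg v = ∑ l : L, (l : H) • v := fun v => by simp [avg]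
  have hkill : ∀ g : H, g ∈ L → ∀ x ∈ im V g, avg x = 0 := by
    intro g hg x hx
    obtain ⟨y, rfl⟩ := mem_im.1 hx
    rw [map_sub, havg, havg, sub_eq_zero]
    exact Fintype.sum_equiv (Equiv.mulRight (⟨g, hg⟩ : L)) _ _
      (fun l => by simp [mul_smul])
  have hfix : ∀ l : L, (l : H) • v = v := by
    rintro ⟨l, hl⟩
    induction hl using Subgroup.closure_induction with
    | mem x hx => rcases hx with rfl | rfl; exacts [ha, hb]
    | one => exact one_smul _ _
    | mul x y _ _ hx hy => rw [mul_smul, hy, hx]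
    | inv x _ hx => rw [inv_smul_eq_iff, hx]
  obtain ⟨i, hi, j, hj, rfl⟩ := AddSubgroup.mem_sup.1 hv
  have h0 : avg (i + j) = 0 := by
    rw [map_add, hkill a (Subgroup.subset_closure (by simp)) i hi,
      hkill b (Subgroup.subset_closure (by simp)) j hj, add_zero]
  rw [havg, Finset.sum_congr rfl (fun l _ => hfix l), Finset.sum_const, Finset.card_univ,
    ← Nat.card_eq_fintype_card] at h0
  by_contra hne
  exact c.nsmul_ne_zero (fun h => c.not_dvd_card hp (h.trans (Subgroup.card_subgroup_dvd_card L)))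
    hne h0

end Ctx

end Cfsg.Agent.BinaryAffine
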