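import Cfsg.Agent.Lib.BinaryAffine.Field

/-!
# Binary affine groups: from permutation groups to linear groups (S5753)
-/

set_option autoImplicit false

namespace Cfsg.Agent.BinaryAffine

/-- A copy of a finite set, without instances. -/
structure Model (m : ℕ) where
  /-- The index. -/
  idx : Fin m

/-- The defining equivalence of `Model`. -/
def Model.equiv (m : ℕ) : Model m ≃ Fin m :=
  ⟨Model.idx, Model.mk, fun _ => rfl, fun _ => rfl⟩

theorem binary_affine {G Ω : Type*} [Group G] [Finite G] [MulAction G Ω] [FaithfulSMul G Ω]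
    [Fintype Ω] (hprim : MulAction.IsPreprimitive G Ω)
    (N : Subgroup G) (hN : N.Normal) (hN1 : N ≠ ⊥) (hab : IsMulCommutative ↥N)
    (hbin : ∀ (n : ℕ) (I J : Fin n → Ω), 2 ≤ n →
      (∀ i j : Fin n, i ≠ j → ∃ g : G, g • I i = J i ∧ g • I j = J j) →
        ∃ g : G, ∀ i, g • I i = J i) :
    ((Fintype.card Ω).Prime ∧ ∀ ω : Ω, Nat.card ↥(MulAction.stabilizer G ω) ≤ 2) ∨
    (∃ (F E : Type) (_ : Field F) (_ : Fintype F) (_ : Field E) (_ : Fintype E) (_ : Algebra F E)
      (e : Ω ≃ E),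
        Module.finrank F E = 2 ∧
        ∀ σ : Equiv.Perm Ω, σ ∈ (MulAction.toPermHom G Ω).range ↔
          ∃ (a b : E) (φ : E ≃ₐ[F] E),
            Algebra.norm F a = 1 ∧ ∀ ω : Ω, e (σ ω) = a * φ (e ω) + b) := by
  classical
  have hcomm : ∀ x ∈ N, ∀ y ∈ N, x * y = y * x := fun x hx y hy =>
    congrArg Subtype.val (hab.is_comm.comm (⟨x, hx⟩ : N) ⟨y, hy⟩)
  -- nontrivial normal subgroups are transitive
  have htrans : ∀ M : Subgroup G, M.Normal → M ≠ ⊥ → MulAction.IsPretransitive M Ω := by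
    intro M hM hM1
    refine MulAction.IsQuasiPreprimitive.isPretransitive_of_normal fun h => hM1 ?_
    rw [Subgroup.eq_bot_iff_forall]
    intro m hm
    refine FaithfulSMul.eq_of_smul_eq_smul fun ω : Ω => ?_
    have : ω ∈ MulAction.fixedPoints M Ω := h ▸ Set.mem_univ ω
    rw [one_smul]
    exact this ⟨m, hm⟩
  obtain ⟨ω₀⟩ : Nonempty Ω := by
    by_contra h
    rw [not_nonempty_iff] at h
    exact hN1 ((Subgroup.eq_bot_iff_forall _).2 fun n _ =>
      FaithfulSMul.eq_of_smul_eq_smul fun ω : Ω => isEmptyElim ω)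
  have hNt := htrans N hN hN1
  have hreg : ∀ n ∈ N, n • ω₀ = ω₀ → n = 1 := by
    intro n hn h
    refine FaithfulSMul.eq_of_smul_eq_smul fun ω : Ω => ?_
    obtain ⟨⟨m, hm⟩, rfl⟩ := MulAction.exists_smul_eq N ω₀ ω
    rw [one_smul]
    show n • m • ω₀ = m • ω₀
    rw [← mul_smul, hcomm n hn m hm, mul_smul, h]
  have hinj : ∀ n ∈ N, ∀ m ∈ N, n • ω₀ = m • ω₀ → n = m := by
    intro n hn m hm h
    have := hreg (m⁻¹ * n) (N.mul_mem (N.inv_mem hm) hn) (by rw [mul_smul, h, inv_smul_smul])
    exact (inv_mul_eq_one.1 this).symm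
  have : Nontrivial N := (Subgroup.nontrivial_iff_ne_bot N).2 hN1
  obtain ⟨p, hp, hpN⟩ := Nat.exists_prime_and_dvd (Finite.one_lt_card (α := N)).ne'
  have : Fact p.Prime := ⟨hp⟩
  let M : Subgroup G :=
    { carrier := {n | n ∈ N ∧ n ^ p = 1}
      one_mem' := ⟨N.one_mem, one_pow p⟩
      mul_mem' := fun {a b} ha hb => ⟨N.mul_mem ha.1 hb.1, by
        rw [Commute.mul_pow (hcomm a ha.1 b hb.1), ha.2, hb.2, one_mul]⟩
      inv_mem' := fun {a} ha => ⟨N.inv_mem ha.1, by rw [inv_pow, ha.2, inv_one]⟩ }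
  have hM : M.Normal := ⟨fun n hn g => ⟨hN.conj_mem n hn.1 g, by rw [conj_pow, hn.2]; simp⟩⟩
  obtain ⟨x, hx⟩ := exists_prime_orderOf_dvd_card' p hpN
  have hM1 : M ≠ ⊥ := fun h => by
    have hxM : (x : G) ∈ M := ⟨x.2, by rw [← hx, ← Subgroup.orderOf_coe, pow_orderOf_eq_one]⟩
    rw [h, Subgroup.mem_bot] at hxM
    rw [← Subgroup.orderOf_coe, hxM, orderOf_one] at hx
    exact hp.ne_one hx.symm
  have hexp : ∀ n ∈ N, n ^ p = 1 := by
    intro n hn
    have hMt := htrans M hM hM1
    obtain ⟨⟨m, hm⟩, hmn⟩ := MulAction.exists_smul_eq M ω₀ (n • ω₀)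
    rw [← hinj m hm.1 n hn hmn]
    exact hm.2
  -- the model `V`
  let V := Model (Nat.card N)
  let ε : V ≃ Additive N :=
    (Model.equiv _).trans ((Finite.equivFin N).symm.trans Additive.ofMul)
  letI : CommGroup N :=
    { (inferInstance : Group N) with mul_comm := fun a b => hab.is_comm.comm a b }
  letI : AddCommGroup V := ε.addCommGroup
  let tr : V → G := fun v => ((Additive.toMul (ε v) : N) : G)
  have htrmem : ∀ v, tr v ∈ N := fun v => SetLike.coe_mem _
  have htrinj : Function.Injective tr := fun v w h => ε.injective (Subtype.ext h)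
  have htrsurj : ∀ n ∈ N, ∃ v, tr v = n := fun n hn =>
    ⟨ε.symm (Additive.ofMul ⟨n, hn⟩), by simp [tr]⟩
  have htradd : ∀ v w, tr (v + w) = tr v * tr w := fun v w => by
    show ((Additive.toMul (ε (ε.symm (ε v + ε w))) : N) : G) = _
    rw [Equiv.apply_symm_apply]; rfl
  have htr0 : tr 0 = 1 := by
    have h := htradd 0 0
    rw [add_zero] at h
    exact left_eq_mul.1 h
  have htrnsmul : ∀ (k : ℕ) (v : V), tr (k • v) = tr v ^ k := by
    intro k v
    induction k with
    | zero => rw [zero_smul, pow_zero, htr0]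
    | succ k ih => rw [succ_nsmul, htradd, ih, pow_succ]
  let H := MulAction.stabilizer G ω₀
  let act : H → V → V := fun h v =>
    (htrsurj _ (hN.conj_mem _ (htrmem v) (h : G))).choose
  have hact : ∀ h v, tr (act h v) = (h : G) * tr v * (h : G)⁻¹ := fun h v =>
    (htrsurj _ (hN.conj_mem _ (htrmem v) (h : G))).choose_spec
  letI : DistribMulAction H V :=
    { smul := act
      one_smul := fun v => htrinj (by
        show tr (act 1 v) = tr v
        rw [hact]; simp)
      mul_smul := fun a b v => htrinj (by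
        show tr (act (a * b) v) = tr (act a (act b v))
        rw [hact, hact, hact]; simp [mul_assoc])
      smul_zero := fun a => htrinj (by
        show tr (act a 0) = tr 0
        rw [hact, htr0]; simp)
      smul_add := fun a v w => htrinj (by
        show tr (act a (v + w)) = tr (act a v + act a w)
        rw [hact, htradd, htradd, hact, hact]; group) }
  have hsmul : ∀ (h : H) (v : V), tr (h • v) = (h : G) * tr v * (h : G)⁻¹ := hact
  let ι : V ≃ Ω := Equiv.ofBijective (fun v => tr v • ω₀) ⟨fun v w h =>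
      htrinj (hinj _ (htrmem v) _ (htrmem w) h), fun ω => by
    obtain ⟨⟨n, hn⟩, h⟩ := MulAction.exists_smul_eq N ω₀ ω
    obtain ⟨v, rfl⟩ := htrsurj n hn
    exact ⟨v, h⟩⟩
  have hι : ∀ v, ι v = tr v • ω₀ := fun v => rfl
  have hι0 : ι 0 = ω₀ := by rw [hι, htr0, one_smul]
  have hH : ∀ (h : H) (v : V), (h : G) • ι v = ι (h • v) := fun h v => by
    rw [hι, hι, hsmul, mul_smul, mul_smul]
    have : ((h : G)⁻¹) • ω₀ = ω₀ := inv_smul_eq_iff.2 (MulAction.mem_stabilizer_iff.1 h.2).symm
    rw [this]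
  have hNι : ∀ v w : V, tr v • ι w = ι (v + w) := fun v w => by
    rw [hι, hι, htradd, mul_smul]
  have hdec : ∀ g : G, ∃ (v : V) (h : H), g = tr v * h := fun g => by
    obtain ⟨v, hv⟩ := ι.surjective (g • ω₀)
    rw [hι] at hv
    exact ⟨v, ⟨(tr v)⁻¹ * g, MulAction.mem_stabilizer_iff.2 (by
      rw [mul_smul, ← hv, inv_smul_smul])⟩, by simp⟩
  have : Finite V := Finite.of_equiv _ ι.symm
  have : Nontrivial V := ε.nontrivial
  have : FaithfulSMul H V := ⟨fun {a b} h => Subtype.ext (FaithfulSMul.eq_of_smul_eq_smul fun ω => by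
    obtain ⟨v, rfl⟩ := ι.surjective ω
    rw [hH, hH, h])⟩
  have hctx : Ctx H V p := by
    refine ⟨hp, fun v => htrinj (by rw [htrnsmul, hexp _ (htrmem v), htr0]), ?_, ?_⟩
    · intro P h1 h2
      let T := Bool ⊕ P
      let I : T → Ω := Sum.elim (fun _ => ω₀) (fun x => ι x.1.1)
      let J : T → Ω := Sum.elim (fun _ => ω₀) (fun x => ι x.1.2)
      have : Finite T := inferInstanceAs (Finite (Bool ⊕ P))
      let eT : T ≃ Fin (Nat.card T) := Finite.equivFin T
      have hcard : 2 ≤ Nat.card T := by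
        show 2 ≤ Nat.card (Bool ⊕ P)
        rw [Nat.card_sum, Nat.card_eq_fintype_card, Fintype.card_bool]
        omega
      have hpair : ∀ s t : T, ∃ g : G, g • I s = J s ∧ g • I t = J t := by
        rintro (s | ⟨x, hx⟩) (t | ⟨y, hy⟩)
        · exact ⟨1, one_smul _ _, one_smul _ _⟩
        · obtain ⟨h, -, hh⟩ := h1 y hy
          exact ⟨h, h.2, by simp only [I, J, Sum.elim_inr]; rw [hH, hh]⟩
        · obtain ⟨h, -, hh⟩ := h1 x hx
          exact ⟨h, by simp only [I, J, Sum.elim_inr]; rw [hH, hh], h.2⟩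
        · obtain ⟨h, -, hh⟩ := h2 x hx y hy
          refine ⟨tr (x.2 - h • x.1) * h, ?_, ?_⟩
          · simp only [I, J, Sum.elim_inr]
            rw [mul_smul, hH, hNι, sub_add_cancel]
          · simp only [I, J, Sum.elim_inr]
            rw [mul_smul, hH, hNι]
            congr 1
            rw [smul_sub] at hh
            rw [sub_eq_iff_eq_add.1 hh.symm]
            abel
      obtain ⟨g, hg⟩ := hbin (Nat.card T) (fun i => I (eT.symm i)) (fun i => J (eT.symm i)) hcard
        (fun i j _ => hpair _ _)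
      have hgT : ∀ s : T, g • I s = J s := fun s => by simpa using hg (eT s)
      refine ⟨⟨g, MulAction.mem_stabilizer_iff.2 (hgT (Sum.inl true))⟩, trivial,
        fun x hx => ι.injective ?_⟩
      rw [← hH]
      exact hgT (Sum.inr ⟨x, hx⟩)
    · intro W hW
      let M : Subgroup G :=
        { carrier := {n | ∃ w ∈ W, tr w = n}
          one_mem' := ⟨0, W.zero_mem, htr0⟩
          mul_mem' := by
            rintro _ _ ⟨v, hv, rfl⟩ ⟨w, hw, rfl⟩
            exact ⟨v + w, W.add_mem hv hw, htradd v w⟩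
          inv_mem' := by
            rintro _ ⟨v, hv, rfl⟩
            refine ⟨-v, W.neg_mem hv, eq_inv_of_mul_eq_one_left ?_⟩
            rw [← htradd, neg_add_cancel, htr0] }
      have hMn : M.Normal := ⟨by
        rintro _ ⟨w, hw, rfl⟩ g
        obtain ⟨v, h, rfl⟩ := hdec g
        refine ⟨h • w, hW h w hw, ?_⟩
        calc tr (h • w) = tr (h • w) * (tr v * (tr v)⁻¹) := by simp
          _ = tr v * tr (h • w) * (tr v)⁻¹ := by
              rw [← mul_assoc, hcomm _ (htrmem _) _ (htrmem v)]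
          _ = tr v * h * tr w * (tr v * h)⁻¹ := by rw [hsmul]; group⟩
      by_cases hbot : M = ⊥
      · left
        rw [AddSubgroup.eq_bot_iff_forall]
        intro w hw
        have : tr w ∈ (⊥ : Subgroup G) := hbot ▸ ⟨w, hw, rfl⟩
        exact htrinj ((Subgroup.mem_bot.1 this).trans htr0.symm)
      · right
        rw [eq_top_iff]
        intro v _
        have hMt := htrans M hMn hbot
        obtain ⟨⟨_, w, hw, rfl⟩, h⟩ := MulAction.exists_smul_eq M ω₀ (ι v)
        rw [← ι.injective (show ι w = ι v from h)]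
        exact hw
  rcases classification hctx with ⟨hprime, hle⟩ |
    ⟨F, E, iF, iF', iE, iE', iA, e, hfr, he⟩
  · refine Or.inl ⟨by rwa [← Nat.card_eq_fintype_card, ← Nat.card_congr ι], fun ω => ?_⟩
    have hstab : ∀ ω : Ω, Nat.card ↥(MulAction.stabilizer G ω) = Nat.card H := by
      intro ω
      have := hprim.toIsPretransitive
      obtain ⟨g, rfl⟩ := MulAction.exists_smul_eq G ω₀ (ω : Ω)
      rw [MulAction.stabilizer_smul_eq_stabilizer_map_conj]
      exact Subgroup.card_map_of_injective (MulEquiv.injective _)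
    rw [hstab]
    exact hle
  · refine Or.inr ⟨F, E, iF, iF', iE, iE', iA, ι.symm.trans e.toEquiv, hfr, fun σ => ?_⟩
    simp only [Equiv.trans_apply, AddEquiv.coe_toEquiv, MonoidHom.mem_range]
    constructor
    · rintro ⟨g, rfl⟩
      obtain ⟨v, h, rfl⟩ := hdec g
      obtain ⟨a, φ, ha, hf⟩ := (he fun w => h • w).1 ⟨h, fun _ => rfl⟩
      refine ⟨a, e v, φ, ha, fun ω => ?_⟩
      obtain ⟨w, rfl⟩ := ι.surjective ω
      show e (ι.symm _) = a * φ (e (ι.symm (ι w))) + e v
      rw [MulAction.toPermHom_apply, MulAction.toPerm_apply, mul_smul, hH, hNι,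
        Equiv.symm_apply_apply, Equiv.symm_apply_apply, map_add, hf w, add_comm]
    · rintro ⟨a, b, φ, ha, hσ⟩
      replace hσ : ∀ ω, e (ι.symm (σ ω)) = a * φ (e (ι.symm ω)) + b := hσ
      obtain ⟨h, hh⟩ := (he fun w => e.symm (a * φ (e w))).2
        ⟨a, φ, ha, fun w => e.apply_symm_apply _⟩
      refine ⟨tr (e.symm b) * h, Equiv.ext fun ω => ?_⟩
      obtain ⟨w, rfl⟩ := ι.surjective ω
      apply ι.symm.injective
      apply e.injective
      rw [hσ, MulAction.toPermHom_apply, MulAction.toPerm_apply, mul_smul, hH, hNι,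
        Equiv.symm_apply_apply, Equiv.symm_apply_apply, ← hh, map_add, e.apply_symm_apply,
        e.apply_symm_apply, add_comm]

end Cfsg.Agent.BinaryAffine
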