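import Cfsg.Agent.Lib.BinaryAffine.Line

/-!
# Binary affine groups: odd characteristic (S5753)
-/

set_option autoImplicit false

namespace Cfsg.Agent.BinaryAffine

/-- There is no regular friendship graph of degree `q + 1` with `q ≡ 0` modulo a prime. -/
lemma friendship_false {R : Type*} [Finite R] {p q : ℕ} (hp : p.Prime) (hq : p ∣ q)
    (nb : R → R → Prop) (hsymm : ∀ g s, nb g s → nb s g) (hirr : ∀ g, ¬ nb g g)
    (hdeg : ∀ g, Nat.card {s // nb g s} = q + 1)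
    (hcommon : ∀ g h, g ≠ h → ∃! s, nb g s ∧ nb h s) (g0 : R) : False := by
  classical
  have : Fact p.Prime := ⟨hp⟩
  have : Fintype R := Fintype.ofFinite R
  let A : Matrix R R (ZMod p) := fun g s => if nb g s then 1 else 0
  let J : Matrix R R (ZMod p) := fun _ _ => 1
  have hq0 : ((q + 1 : ℕ) : ZMod p) = 1 := by
    rw [Nat.cast_add, (ZMod.natCast_eq_zero_iff q p).2 hq, Nat.cast_one, zero_add]
  have hrow : ∀ g, ∑ s, A g s = 1 := fun g => by
    simp only [A, Finset.sum_boole]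
    rw [← Fintype.card_subtype, ← Nat.card_eq_fintype_card, hdeg g, hq0]
  have hAA : A * A = J := by
    ext g h
    show ∑ s, A g s * A s h = 1
    rcases eq_or_ne g h with rfl | hne
    · rw [← hrow g]
      refine Finset.sum_congr rfl fun s _ => ?_
      by_cases hs : nb g s
      · simp [A, hs, hsymm _ _ hs]
      · simp [A, hs]
    · obtain ⟨s, ⟨hs1, hs2⟩, huniq⟩ := hcommon g h hne
      rw [Finset.sum_eq_single s (fun t _ ht => ?_) (fun h => absurd (Finset.mem_univ s) h)]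
      · simp [A, hs1, hsymm _ _ hs2]
      · by_cases h1 : nb g t
        · by_cases h2 : nb t h
          · exact absurd (huniq t ⟨h1, hsymm _ _ h2⟩) ht
          · simp [A, h2]
        · simp [A, h1]
  have hAJ : A * J = J := by
    ext g h
    show ∑ s, A g s * (1 : ZMod p) = 1
    simp [hrow g]
  have hpow : ∀ n : ℕ, A ^ (n + 2) = J := by
    intro n
    induction n with
    | zero => rw [pow_two, hAA]
    | succ n ih => rw [pow_succ', ih, hAJ]
  have hcard : ((Fintype.card R : ℕ) : ZMod p) = 1 := by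
    have h1 : ∑ h, (A * A) g0 h = 1 := by
      simp only [Matrix.mul_apply]
      rw [Finset.sum_comm]
      simp [← Finset.mul_sum, hrow]
    rw [hAA] at h1
    simpa [J] using h1
  have h1 := ZMod.trace_pow_card A
  obtain ⟨n, hn⟩ : ∃ n, p = n + 2 := ⟨p - 2, by have := hp.two_le; omega⟩
  have hJ : A ^ p = J := hn ▸ hpow n
  have htr : A.trace = 0 := Finset.sum_eq_zero fun x _ => if_neg (hirr x)
  have htrJ : J.trace = 1 := by
    show ∑ _x : R, (1 : ZMod p) = 1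
    simp [hcard]
  rw [hJ, htr, htrJ, zero_pow hp.ne_zero] at h1
  exact one_ne_zero h1

variable {H : Type*} [Group H] {V : Type} [AddCommGroup V] [DistribMulAction H V]

namespace NCtx

variable [Finite H] [Finite V] [FaithfulSMul H V] {p q : ℕ} (c : NCtx H V p q)
include c

/-- In odd characteristic every nondegenerate intersection is trivial. -/
lemma nondeg_bot_odd (hp : p ≠ 2) {X : AddSubgroup V} (hX : Nondeg H X) : X = ⊥ := by
  classical
  have hgen : ∀ j k : H, Refl V j → Refl V k → fx V j ≠ fx V k →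
      Nat.card ↥(fx V j ⊓ fx V k) * q * q = Nat.card V := fun j k hj hk h => c.gen_odd hp hj hk h
  have hq3 : 3 ≤ q := by
    have := c.p_le_q
    have := c.ctx.prime.two_le
    omega
  by_contra hX0
  -- a reflection on the line and one off it
  obtain ⟨r, k, hrk, hXr, hXk⟩ : ∃ r k : H, NC V r k ∧ X ≤ fx V r ∧ ¬ X ≤ fx V k := by
    by_contra! hcon
    obtain ⟨a, b, hab, hXe⟩ := hX
    refine hX0 ((AddSubgroup.eq_bot_iff_forall _).2 fun v hv =>
      c.ctx.eq_zero_of_all_fixed hab.left fun g hg => ?_)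
    exact mem_fx.1 (c.ctx.induction_refl hab (fun r => X ≤ fx V r) (hXe ▸ inf_le_left)
      (fun x y hxy hx => hcon x y hxy hx) hg hv)
  have hr := hrk.left
  have hk := hrk.right
  set Y := fx V k ⊓ X with hY'
  have hY : Nat.card Y * q * q * q = Nat.card V := c.card_inf_nondeg hgen hX hk hXk
  have hYX : Y ≤ X := inf_le_right
  have hYr : Y ≤ fx V r := hYX.trans hXr
  -- meeting of a point and a line
  have hmeet : ∀ {Z : AddSubgroup V} {g : H}, Nondeg H Z → Refl V g → Y ≤ Z → Y ≤ fx V g →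
      ¬ Z ≤ fx V g → fx V g ⊓ Z = Y := by
    intro Z g hZ hg hYZ hYg hZg
    refine (eq_of_le_of_card_le (le_inf hYg hYZ) (le_of_eq ?_)).symm
    have h := c.card_inf_nondeg hgen hZ hg hZg
    exact Nat.eq_of_mul_eq_mul_right c.q_pos (Nat.eq_of_mul_eq_mul_right c.q_pos
      (Nat.eq_of_mul_eq_mul_right c.q_pos (h.trans hY.symm)))
  -- a line avoiding a given point
  have havoid : ∀ g : H, Refl V g → Y ≤ fx V g →
      ∃ Z : AddSubgroup V, Nondeg H Z ∧ Y ≤ Z ∧ ¬ Z ≤ fx V g := by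
    intro g hg hYg
    by_cases hXg : X ≤ fx V g
    swap
    · exact ⟨X, hX, hYX, hXg⟩
    rcases eq_or_ne g r with rfl | hgr
    swap
    · refine ⟨fx V r ⊓ fx V k, ⟨r, k, hrk, rfl⟩, le_inf hYr inf_le_left, fun hle => hXk ?_⟩
      have h1 : fx V r ⊓ fx V k ≤ X :=
        (le_inf inf_le_left hle).trans
          (c.inf_line hX hr hg hXr hXg fun e => hgr (c.ctx.eq_of_fx_eq hp hg hr e.symm)).le
      rw [← c.eq_of_le_nondeg (c.card_nondeg hX) h1 (c.card_inf hrk)]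
      exact inf_le_right
    obtain ⟨s, hs, hXs, hsr, hsk⟩ : ∃ s : H, Refl V s ∧ X ≤ fx V s ∧ fx V s ≠ fx V g ∧
        s * k ≠ k * s := by
      by_contra! hcon
      have hn : 1 < (lines H X \ {fx V g}).ncard := by
        have := Set.ncard_sdiff_singleton_add_one
          (show fx V g ∈ lines H X from ⟨g, hg, hXg, rfl⟩) (Set.toFinite _)
        rw [c.ncard_lines hX] at this
        omega
      obtain ⟨Φ, ⟨⟨s, hs, hXs, hse⟩, hΦ⟩, Ψ, ⟨⟨t, ht, hXt, hte⟩, hΨ⟩, hne⟩ :=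
        (Set.one_lt_ncard (Set.toFinite _)).1 hn
      subst hse hte
      have h1 := c.ctx.im_le_fx hs hk (fun e => hXk (e ▸ hXs)) (hcon s hs hXs hΦ)
      have h2 := c.ctx.im_le_fx ht hk (fun e => hXk (e ▸ hXt)) (hcon t ht hXt hΨ)
      obtain ⟨x, hx⟩ := hk.exists_im_ne (V := V)
      have h3 : k • x - x ∈ fx V g := by
        refine hXg ?_
        rw [← c.inf_line hX hs ht hXs hXt hne]
        exact ⟨h1 (sub_mem_im k x), h2 (sub_mem_im k x)⟩
      exact hrk.ncomm (c.ctx.comm_of_mem hg hk hx (sub_mem_im k x) h3)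
    refine ⟨fx V s ⊓ fx V k, ⟨s, k, ⟨hs, hk, hsk⟩, rfl⟩,
      le_inf (hYX.trans hXs) inf_le_left, fun hle => hXk ?_⟩
    have h1 : fx V s ⊓ fx V k ≤ X :=
      (le_inf inf_le_left hle).trans (c.inf_line hX hs hg hXs hXg hsr).le
    rw [← c.eq_of_le_nondeg (c.card_nondeg hX) h1 (c.card_inf ⟨hs, hk, hsk⟩)]
    exact inf_le_right
  -- commuters
  have hXg_card : ∀ g : H, Refl V g → Y ≤ fx V g →
      Nat.card ↥(im V g ⊔ Y) * q * q = Nat.card V := by
    intro g hg hYg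
    have hd : im V g ⊓ Y = ⊥ := eq_bot_iff.2 (c.ctx.im_inf_fx hp hg ▸ inf_le_inf_left _ hYg)
    have h := card_sup_mul_card_inf (im V g) Y
    rw [hd, AddSubgroup.card_bot, mul_one, c.hq g hg] at h
    rw [h, ← hY]; ring
  have hnotself : ∀ g s : H, Refl V g → im V g ⊔ Y ≤ fx V s → g ≠ s := by
    rintro g s hg hle rfl
    exact im_ne_bot hg (eq_bot_iff.2
      (c.ctx.im_inf_fx hp hg ▸ le_inf le_rfl (le_sup_left.trans hle)))
  have hpair : ∀ g s t : H, Refl V g → Y ≤ fx V g → Refl V s → Refl V t → s ≠ t →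
      im V g ⊔ Y ≤ fx V s → im V g ⊔ Y ≤ fx V t → fx V s ⊓ fx V t = im V g ⊔ Y := by
    intro g s t hg hYg hs ht hne h1 h2
    exact (c.eq_of_le_nondeg (hgen s t hs ht fun e => hne (c.ctx.eq_of_fx_eq hp hs ht e))
      (le_inf h1 h2) (hXg_card g hg hYg)).symm
  have hline : ∀ g : H, Refl V g → Y ≤ fx V g → Nondeg H (im V g ⊔ Y) := by
    intro g hg hYg
    obtain ⟨Z, hZ, hYZ, hZg⟩ := havoid g hg hYg
    have hex : ∀ Φ : lines H Z, ∃ s : H, Refl V s ∧ im V g ⊔ Y ≤ fx V s ∧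
        fx V g ⊓ (Φ : AddSubgroup V) ≤ fx V s := by
      rintro ⟨_, t, ht, hZt, rfl⟩
      have hgt : g ≠ t := fun e => hZg (e ▸ hZt)
      by_cases hc : t * g = g * t
      · exact ⟨t, ht, sup_le (c.ctx.im_le_fx ht hg hgt.symm hc) (hYZ.trans hZt), inf_le_right⟩
      have hZ1 : Nondeg H (fx V g ⊓ fx V t) := ⟨g, t, ⟨hg, ht, Ne.symm hc⟩, rfl⟩
      obtain ⟨x, hx⟩ := hg.exists_im_ne (V := V)
      obtain ⟨s, hs, hle, hxs⟩ := c.cover hZ1 (g • x - x)
      have hsg : s ≠ g := fun e => hx ((AddSubgroup.eq_bot_iff_forall _).1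
        (c.ctx.im_inf_fx hp hg) _ ⟨sub_mem_im g x, e ▸ hxs⟩)
      exact ⟨s, hs, sup_le (c.ctx.im_le_fx hs hg hsg
        (c.ctx.comm_of_mem hs hg hx (sub_mem_im g x) hxs))
        ((le_inf hYg (hYZ.trans hZt)).trans hle), hle⟩
    choose f hf1 hf2 hf3 using hex
    have hinj : Function.Injective f := by
      rintro ⟨_, t, ht, hZt, rfl⟩ ⟨_, u, hu, hZu, rfl⟩ e
      by_contra hne
      have hne' : fx V t ≠ fx V u := fun e => hne (Subtype.ext e)
      have hgs : fx V g ≠ fx V (f ⟨fx V t, t, ht, hZt, rfl⟩) := fun e' =>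
        hnotself g _ hg (hf2 _) (c.ctx.eq_of_fx_eq hp hg (hf1 _) e')
      have h1 := c.eq_of_le_nondeg (hgen g _ hg (hf1 _) hgs)
        (le_inf inf_le_left (hf3 ⟨fx V t, t, ht, hZt, rfl⟩))
        (hgen g t hg ht fun e' => hZg (e' ▸ hZt))
      have h2 := c.eq_of_le_nondeg (hgen g _ hg (hf1 _) hgs)
        (le_inf inf_le_left (e ▸ hf3 ⟨fx V u, u, hu, hZu, rfl⟩))
        (hgen g u hg hu fun e' => hZg (e' ▸ hZu))
      have h3 : fx V g ⊓ fx V t ≤ Z := by
        rw [← c.inf_line hZ ht hu hZt hZu hne']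
        exact le_inf inf_le_right ((h1.trans h2.symm).le.trans inf_le_right)
      refine hZg ?_
      rw [← c.eq_of_le_nondeg (c.card_nondeg hZ) h3 (hgen g t hg ht fun e' => hZg (e' ▸ hZt))]
      exact inf_le_left
    have h3 : 2 < (Set.range f).ncard := by
      rw [← Nat.card_coe_set_eq, Nat.card_range_of_injective hinj, Nat.card_coe_set_eq,
        c.ncard_lines hZ]
      omega
    obtain ⟨s, t, u, ⟨Φ, rfl⟩, ⟨Ψ, rfl⟩, ⟨Θ, rfl⟩, hst, hsu, htu⟩ :=
      (Set.two_lt_ncard_iff (Set.toFinite _)).1 h3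
    by_cases h12 : f Φ * f Ψ ≠ f Ψ * f Φ
    · exact ⟨f Φ, f Ψ, ⟨hf1 _, hf1 _, h12⟩,
        (hpair g _ _ hg hYg (hf1 _) (hf1 _) hst (hf2 _) (hf2 _)).symm⟩
    by_cases h13 : f Φ * f Θ ≠ f Θ * f Φ
    · exact ⟨f Φ, f Θ, ⟨hf1 _, hf1 _, h13⟩,
        (hpair g _ _ hg hYg (hf1 _) (hf1 _) hsu (hf2 _) (hf2 _)).symm⟩
    by_cases h23 : f Ψ * f Θ ≠ f Θ * f Ψ
    · exact ⟨f Ψ, f Θ, ⟨hf1 _, hf1 _, h23⟩,
        (hpair g _ _ hg hYg (hf1 _) (hf1 _) htu (hf2 _) (hf2 _)).symm⟩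
    rw [not_ne_iff] at h12 h13 h23
    exfalso
    have hle : im V (f Θ) ≤ im V g ⊔ Y := by
      rw [← hpair g _ _ hg hYg (hf1 _) (hf1 _) hst (hf2 _) (hf2 _)]
      exact le_inf (c.ctx.im_le_fx (hf1 _) (hf1 _) hsu h13) (c.ctx.im_le_fx (hf1 _) (hf1 _) htu h23)
    exact im_ne_bot (hf1 Θ) (eq_bot_iff.2
      (c.ctx.im_inf_fx hp (hf1 Θ) ▸ le_inf le_rfl (hle.trans (hf2 Θ))))
  -- the friendship graph
  let R := {g : H // Refl V g ∧ Y ≤ fx V g}
  let nb : R → R → Prop := fun g s => g.1 ≠ s.1 ∧ g.1 * s.1 = s.1 * g.1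
  have hnb : ∀ g s : R, nb g s ↔ im V g.1 ⊔ Y ≤ fx V s.1 := fun g s => by
    refine ⟨fun h => sup_le (c.ctx.im_le_fx s.2.1 g.2.1 (Ne.symm h.1) h.2.symm) s.2.2,
      fun h => ⟨hnotself _ _ g.2.1 h, ?_⟩⟩
    obtain ⟨x, hx⟩ := g.2.1.exists_im_ne (V := V)
    exact (c.ctx.comm_of_mem s.2.1 g.2.1 hx (sub_mem_im _ x)
      (le_sup_left.trans h (sub_mem_im _ x))).symm
  have hdeg : ∀ g : R, Nat.card {s // nb g s} = q + 1 := by
    intro g
    rw [← c.ncard_lines (hline g.1 g.2.1 g.2.2), ← Nat.card_coe_set_eq]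
    refine Nat.card_eq_of_bijective (fun s => ⟨fx V s.1.1, s.1.1, s.1.2.1, (hnb g s.1).1 s.2, rfl⟩)
      ⟨fun s t e => ?_, ?_⟩
    · exact Subtype.ext (Subtype.ext
        (c.ctx.eq_of_fx_eq hp s.1.2.1 t.1.2.1 (congrArg Subtype.val e)))
    · rintro ⟨_, s, hs, hle, rfl⟩
      exact ⟨⟨⟨s, hs, le_sup_right.trans hle⟩, (hnb g _).2 hle⟩, rfl⟩
  have hcommon : ∀ g h : R, g ≠ h → ∃! s, nb g s ∧ nb h s := by
    intro g h hgh
    have hne : im V g.1 ⊔ Y ≠ im V h.1 ⊔ Y := by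
      intro e
      obtain ⟨x, hx⟩ := g.2.1.exists_im_ne (V := V)
      obtain ⟨i, hi, y, hy, hiy⟩ :=
        AddSubgroup.mem_sup.1 (e ▸ AddSubgroup.mem_sup_left (sub_mem_im g.1 x))
      have hy0 : y = 0 := c.ctx.eq_zero_of_fixed hp (a := g.1) (b := h.1)
        (mem_fx.1 (g.2.2 hy)) (mem_fx.1 (h.2.2 hy)) (by
          rw [eq_sub_of_add_eq' hiy]
          exact AddSubgroup.sub_mem _ (AddSubgroup.mem_sup_left (sub_mem_im g.1 x))
            (AddSubgroup.mem_sup_right hi))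
      rw [hy0, add_zero] at hiy
      rcases c.ctx.im_inter_eq_zero g.2.1 h.2.1 (sub_mem_im g.1 x) (hiy ▸ hi) with h' | h'
      · exact hx h'
      · exact hgh (Subtype.ext h')
    obtain ⟨x, hx, hxg⟩ := SetLike.not_le_iff_exists.1 fun hle =>
      hne (c.eq_of_le_nondeg (hXg_card g.1 g.2.1 g.2.2) hle (hXg_card h.1 h.2.1 h.2.2)).symm
    obtain ⟨s, hs, hle, hxs⟩ := c.cover (hline g.1 g.2.1 g.2.2) x
    have hYs : Y ≤ fx V s := le_sup_right.trans hle
    have hle2 : im V h.1 ⊔ Y ≤ fx V s := by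
      by_contra hn
      refine hxg (le_sup_right (a := im V g.1) ?_)
      rw [← hmeet (hline h.1 h.2.1 h.2.2) hs le_sup_right hYs hn]
      exact ⟨hxs, hx⟩
    refine ⟨⟨s, hs, hYs⟩, ⟨(hnb g _).2 hle, (hnb h _).2 hle2⟩, ?_⟩
    rintro t ⟨h1, h2⟩
    by_contra hts
    have hts' : t.1 ≠ s := fun e => hts (Subtype.ext e)
    exact hne ((hpair g.1 t.1 s g.2.1 g.2.2 t.2.1 hs hts' ((hnb g t).1 h1) hle).symm.trans
      (hpair h.1 t.1 s h.2.1 h.2.2 t.2.1 hs hts' ((hnb h t).1 h2) hle2))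
  exact friendship_false c.ctx.prime c.p_dvd_q nb (fun g s h => ⟨Ne.symm h.1, h.2.symm⟩)
    (fun g h => h.1 rfl) hdeg hcommon (⟨r, hr, hYr⟩ : R)

end NCtx

end Cfsg.Agent.BinaryAffine
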