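import Cfsg.Agent.Lib.BinaryAffine.Two
import Cfsg.Agent.Lib.BinaryAffine.Odd

/-!
# Binary affine groups: the planar case (S5753)
-/

set_option autoImplicit false

namespace Cfsg.Agent.BinaryAffine

variable {H : Type*} [Group H] {V : Type} [AddCommGroup V] [DistribMulAction H V]

lemma arith_irred {p e i : ℕ} (hp : 2 ≤ p) (hi : 1 ≤ i) (hlt : i < 2 * e) :
    ¬ (p ^ e + 1) ∣ (p ^ i - 1) := by
  intro hd
  have hi1 : 1 < p ^ i := Nat.one_lt_pow (by omega) (by omega)
  rcases le_or_gt i e with h | h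
  · have := Nat.pow_le_pow_right (show 0 < p by omega) h
    have := Nat.le_of_dvd (by omega) hd
    omega
  · obtain ⟨j, rfl⟩ : ∃ j, i = e + j := ⟨i - e, by omega⟩
    have hj : j + 1 ≤ e := by omega
    have h1 : (p ^ e + 1) ∣ p ^ j * (p ^ e + 1) := dvd_mul_left _ _
    have h2 : p ^ j * (p ^ e + 1) - (p ^ (e + j) - 1) = p ^ j + 1 := by
      have h3 : p ^ j * (p ^ e + 1) = p ^ (e + j) + p ^ j := by ring
      omega
    have h4 := h2 ▸ Nat.dvd_sub h1 hd
    have h5 := Nat.le_of_dvd (by omega) h4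
    have h6 : p ^ (j + 1) ≤ p ^ e := Nat.pow_le_pow_right (by omega) hj
    have h7 : 0 < p ^ j := by positivity
    rw [pow_succ] at h6
    nlinarith

namespace NCtx

variable [Finite H] [Finite V] [FaithfulSMul H V] {p q : ℕ} (c : NCtx H V p q)
include c

lemma nondeg_bot {X : AddSubgroup V} (hX : Nondeg H X) : X = ⊥ := by
  rcases eq_or_ne p 2 with hp | hp
  · exact c.nondeg_bot_two hp hX
  · exact c.nondeg_bot_odd hp hX

lemma exists_nondeg_bot : Nondeg H (⊥ : AddSubgroup V) := by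
  obtain ⟨a, b, hab⟩ := c.exists_nc
  exact ⟨a, b, hab, (c.nondeg_bot ⟨a, b, hab, rfl⟩).symm⟩

lemma card_V : Nat.card V = q * q := by
  rw [← c.card_nondeg c.exists_nondeg_bot, AddSubgroup.card_bot, one_mul]

lemma card_fx_eq {r : H} (hr : Refl V r) : Nat.card (fx V r) = q :=
  Nat.eq_of_mul_eq_mul_right c.q_pos (by rw [c.card_fx hr, c.card_V])

lemma fx_eq_of_mem {r s : H} (hr : Refl V r) (hs : Refl V s) {v : V} (hv : v ≠ 0)
    (h1 : v ∈ fx V r) (h2 : v ∈ fx V s) : fx V r = fx V s := by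
  by_contra hne
  exact hv ((AddSubgroup.eq_bot_iff_forall _).1
    (c.inf_line c.exists_nondeg_bot hr hs bot_le bot_le hne) v ⟨h1, h2⟩)

/-- A nonidentity element fixing a nonzero vector is a reflection. -/
lemma refl_of_fixed {b : V} (hb : b ≠ 0) {l : H} (hl : l ≠ 1) (hlb : l • b = b) : Refl V l := by
  obtain ⟨k, hk, hle⟩ := exists_refl_above (V := V) hl
  suffices h : fx V k ≤ fx V l from
    ⟨hl, fun m hm hlm => (hk.maxl m hm (h.trans hlm)).trans h⟩
  set L := fixingSubgroup H ({b} : Set V) with hL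
  have hbk : b ∈ fx V k := hle (mem_fx.2 hlb)
  have hLmem : ∀ x : H, x • b = b → x ∈ L := fun x hx => by
    rw [hL, mem_fixingSubgroup_iff]; simpa using hx
  have hLfix : ∀ x ∈ L, x • b = b := fun x hx => (mem_fixingSubgroup_iff H).1 hx b rfl
  obtain ⟨v, hv⟩ : ∃ v : V, v ∉ fx V k := by
    by_contra! hall
    exact hk.ne_one (eq_one_of_fx_eq_top (eq_top_iff.2 fun v _ => hall v))
  have hreg : ∀ x ∈ L, x • v = v → x = 1 := by
    intro x hx hxv
    by_contra hx1
    obtain ⟨k', hk', hle'⟩ := exists_refl_above (V := V) hx1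
    exact hv (c.fx_eq_of_mem hk hk' hb hbk (hle' (mem_fx.2 (hLfix x hx))) ▸
      hle' (mem_fx.2 hxv))
  have hsq : ∀ x ∈ L, x * x = 1 := fun x hx => (c.ctx.bin.fixing {b}).sq_eq_one hreg hx
  have hlL := hLmem l hlb
  have hkL := hLmem k (mem_fx.1 hbk)
  have hcomm : l * k = k * l := by
    have := inv_eq_of_mul_eq_one_right (hsq _ (L.mul_mem hlL hkL))
    rw [mul_inv_rev, inv_eq_of_mul_eq_one_right (hsq l hlL),
      inv_eq_of_mul_eq_one_right (hsq k hkL)] at this
    exact this.symm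
  rcases eq_or_ne p 2 with hp | hp
  · intro i hi
    rw [mem_fx]
    by_contra hne
    have himk : im V k = fx V k := eq_of_le_of_card_le (c.ctx.im_le_fx_of_two hp hk)
      (le_of_eq ((c.card_fx_eq hk).trans (c.hq k hk).symm))
    set d := l • i - i with hd
    have hdk : d ∈ fx V k := by
      refine AddSubgroup.sub_mem _ ?_ hi
      rw [mem_fx, ← mul_smul, ← hcomm, mul_smul, mem_fx.1 hi]
    obtain ⟨x, hx⟩ := mem_im.1 (himk.symm ▸ hdk)
    obtain ⟨G, hG⟩ := c.ctx.exists_shift d
    have hkx : k • x = x + d := by rw [← hx]; abel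
    have hGx : G • x = x + d := hG x k hkx
    have hGi : G • i = i + d := hG i l (by rw [hd]; abel)
    have := hG (x + i) k (by rw [smul_add, hkx, mem_fx.1 hi]; abel)
    rw [smul_add, hGx, hGi] at this
    have h0 : x + i + d + d = x + i + d := (by abel : x + i + d + d = x + d + (i + d)).trans this
    exact hne (sub_eq_zero.1 (add_eq_left.1 h0))
  · suffices l = k by rw [this]
    have hli : ∀ i ∈ im V k, l • i = -i := by
      intro i hi
      have h1 : l • i ∈ im V k := by
        obtain ⟨x, rfl⟩ := mem_im.1 hi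
        rw [smul_sub, ← mul_smul, hcomm, mul_smul]
        exact sub_mem_im k _
      have h2 : l • i + i ∈ fx V k := hle (by
        rw [mem_fx, smul_add, ← mul_smul, hsq l hlL, one_smul, add_comm])
      exact eq_neg_of_add_eq_zero_left ((AddSubgroup.eq_bot_iff_forall _).1
        (c.ctx.im_inf_fx hp hk) _ ⟨AddSubgroup.add_mem _ h1 hi, h2⟩)
    by_contra hne
    have hlk : l * k ≠ 1 := fun e => hne (by
      rw [← c.ctx.inv_eq hk]; exact eq_inv_of_mul_eq_one_left e)
    obtain ⟨k', hk', hle'⟩ := exists_refl_above (V := V) hlk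
    obtain ⟨x, hx⟩ := hk.exists_im_ne (V := V)
    have h1 : k • x - x ∈ fx V k' := hle' (by
      rw [mem_fx, mul_smul, c.ctx.smul_im hk (sub_mem_im k x), smul_neg, hli _ (sub_mem_im k x),
        neg_neg])
    have h2 : b ∈ fx V k' := hle' (by rw [mem_fx, mul_smul, mem_fx.1 hbk, hlb])
    rw [c.fx_eq_of_mem hk' hk hb h2 hbk] at h1
    exact hx ((AddSubgroup.eq_bot_iff_forall _).1 (c.ctx.im_inf_fx hp hk) _ ⟨sub_mem_im k x, h1⟩)

/-- The number of reflections with a given fixed space is constant. -/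
lemma ncard_fx_const {r s : H} (hr : Refl V r) (hs : Refl V s) :
    {t : H | Refl V t ∧ fx V t = fx V r}.ncard = {t : H | Refl V t ∧ fx V t = fx V s}.ncard := by
  rcases eq_or_ne p 2 with hp | hp
  · obtain ⟨h, hh⟩ := c.exists_conj hp hr hs
    rw [← Set.ncard_image_of_injective _ (f := fun t => h * t * h⁻¹)
      (fun x y e => mul_left_cancel (mul_right_cancel e))]
    congr 1
    ext t
    simp only [Set.mem_image, Set.mem_setOf_eq]
    constructor
    · rintro ⟨u, ⟨hu, hue⟩, rfl⟩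
      exact ⟨hu.conj h, by rw [fx_conj_eq, hue, ← fx_conj_eq, hh]⟩
    · rintro ⟨ht, hte⟩
      refine ⟨h⁻¹ * t * h, ⟨by simpa using ht.conj h⁻¹, ?_⟩, by group⟩
      have e : h⁻¹ * t * h = h⁻¹ * t * (h⁻¹)⁻¹ := by rw [inv_inv]
      rw [e, fx_conj_eq, hte, ← hh, ← fx_conj_eq]
      group
  · have : ∀ x : H, Refl V x → {t : H | Refl V t ∧ fx V t = fx V x} = {x} := fun x hx => by
      ext t
      exact ⟨fun ⟨ht, e⟩ => c.ctx.eq_of_fx_eq hp ht hx e, fun e => by rw [Set.mem_singleton_iff] at e; subst e; exact ⟨hx, rfl⟩⟩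
    rw [this r hr, this s hs, Set.ncard_singleton, Set.ncard_singleton]

lemma mul_fpf {g r : H} (hg : Refl V g) (hr : Refl V r) (hne : fx V g ≠ fx V r) :
    fx V (g * r) = ⊥ := by
  rw [AddSubgroup.eq_bot_iff_forall]
  intro v hv
  rw [mem_fx, mul_smul] at hv
  have h1 : r • v = g • v := by
    conv_rhs => rw [← hv, c.ctx.smul_smul_self hg]
  have h2 := (c.ctx.im_inter_eq_zero hg hr (sub_mem_im g v) (h1 ▸ sub_mem_im r v)).resolve_right
    (fun e => hne (by rw [e]))
  by_contra hv0
  exact hne (c.fx_eq_of_mem hg hr hv0 (mem_fx.2 (sub_eq_zero.1 h2))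
    (mem_fx.2 (h1.trans (sub_eq_zero.1 h2))))

lemma card_refl {a : H} (ha : Refl V a) :
    {r : H | Refl V r}.ncard = (q + 1) * {t : H | Refl V t ∧ fx V t = fx V a}.ncard := by
  classical
  have : Fintype H := Fintype.ofFinite H
  have : Finite (AddSubgroup V) := Finite.of_injective _ SetLike.coe_injective
  have : Fintype (AddSubgroup V) := Fintype.ofFinite _
  rw [Set.ncard_eq_toFinset_card' {r : H | Refl V r},
    Finset.card_eq_sum_card_fiberwise (f := fx V) (t := (lines H (⊥ : AddSubgroup V)).toFinset)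
      (fun r hr => by
        simp only [Finset.mem_coe, Set.mem_toFinset, Set.mem_setOf_eq] at hr ⊢
        exact ⟨r, hr, bot_le, rfl⟩)]
  rw [← c.ncard_lines c.exists_nondeg_bot, Set.ncard_eq_toFinset_card' (lines H _)]
  refine Finset.sum_const_nat fun Φ hΦ => ?_
  obtain ⟨s, hs, -, rfl⟩ := Set.mem_toFinset.1 hΦ
  rw [← c.ncard_fx_const hs ha, Set.ncard_eq_toFinset_card']
  congr 1
  ext t
  simp

lemma card_le_of_pairs {a : H} (ha : Refl V a) :
    Nat.card H ≤ (q + 1) * ({t : H | Refl V t ∧ fx V t = fx V a}.ncard + 1) := by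
  classical
  have : Fintype V := Fintype.ofFinite V
  set μ := {t : H | Refl V t ∧ fx V t = fx V a}.ncard with hμ
  have horb : ∀ b : V, b ≠ 0 → (MulAction.orbit H b).ncard * (μ + 1) = Nat.card H := by
    intro b hb
    rw [← MulAction.index_stabilizer, mul_comm]
    convert Subgroup.card_mul_index (MulAction.stabilizer H b) using 2
    obtain ⟨r, hr, -, hbr⟩ := c.cover c.exists_nondeg_bot b
    have hset : (MulAction.stabilizer H b : Set H) =
        insert 1 {t : H | Refl V t ∧ fx V t = fx V r} := by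
      ext l
      simp only [SetLike.mem_coe, MulAction.mem_stabilizer_iff, Set.mem_insert_iff,
        Set.mem_setOf_eq]
      refine ⟨fun hl => or_iff_not_imp_left.2 fun hl1 => ?_, ?_⟩
      · exact ⟨c.refl_of_fixed hb hl1 hl,
          c.fx_eq_of_mem (c.refl_of_fixed hb hl1 hl) hr hb (mem_fx.2 hl) hbr⟩
      · rintro (rfl | ⟨-, he⟩)
        · exact one_smul _ _
        · exact mem_fx.1 (he ▸ hbr)
    rw [← SetLike.coe_sort_coe, Nat.card_coe_set_eq, hset,
      Set.ncard_insert_of_notMem (fun h => h.1.ne_one rfl) (Set.toFinite _),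
      c.ncard_fx_const hr ha]
  let P : V → V → Prop := fun b d => d ≠ 0 ∧ b + d ∈ MulAction.orbit H b
  have hdouble := Finset.sum_card_bipartiteAbove_eq_sum_card_bipartiteBelow P
    (s := (Finset.univ : Finset V).erase 0) (t := (Finset.univ : Finset V).erase 0)
  have hcardV : ((Finset.univ : Finset V).erase 0).card = q * q - 1 := by
    rw [Finset.card_erase_of_mem (Finset.mem_univ _), Finset.card_univ, ← Nat.card_eq_fintype_card,
      c.card_V]
  have hlow : ∀ b ∈ (Finset.univ : Finset V).erase 0,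
      Nat.card H / (μ + 1) - 1 ≤ (((Finset.univ : Finset V).erase 0).bipartiteAbove P b).card := by
    intro b hb
    have hb0 := Finset.ne_of_mem_erase hb
    have : (MulAction.orbit H b \ {b}).ncard = Nat.card H / (μ + 1) - 1 := by
      rw [Set.ncard_sdiff_singleton_of_mem (MulAction.mem_orbit_self b), ← horb b hb0,
        Nat.mul_div_cancel _ (Nat.succ_pos μ)]
    rw [← this, Set.ncard_eq_toFinset_card']
    refine Finset.card_le_card_of_injOn (fun v => v - b) (fun v hv => ?_)
      (fun x _ y _ e => sub_left_inj.1 e)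
    simp only [Finset.mem_coe, Set.mem_toFinset, Set.mem_sdiff, Set.mem_singleton_iff] at hv
    simp [Finset.bipartiteAbove, P, sub_eq_zero, hv.1, hv.2]
  have hup : ∀ d ∈ (Finset.univ : Finset V).erase 0,
      (((Finset.univ : Finset V).erase 0).bipartiteBelow P d).card ≤ q := by
    intro d hd
    have hd0 := Finset.ne_of_mem_erase hd
    rcases Finset.eq_empty_or_nonempty
      (((Finset.univ : Finset V).erase 0).bipartiteBelow P d) with he | ⟨x, hx⟩
    · simp [he]
    obtain ⟨G, hG⟩ := c.ctx.exists_shift d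
    have hmem : ∀ y ∈ ((Finset.univ : Finset V).erase 0).bipartiteBelow P d, G • y = y + d := by
      intro y hy
      simp only [Finset.bipartiteBelow, Finset.mem_filter, P] at hy
      obtain ⟨l, hl⟩ := hy.2.2
      exact hG y l hl
    have hG1 : G ≠ 1 := fun e => hd0 (by
      have := hmem x hx; rw [e, one_smul, left_eq_add] at this; exact this)
    obtain ⟨k, hk, hle⟩ := exists_refl_above (V := V) hG1
    calc _ ≤ ((fx V G : Set V)).toFinset.card := by
          refine Finset.card_le_card_of_injOn (fun y => y - x) (fun y hy => ?_)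
            (fun x _ y _ e => sub_left_inj.1 e)
          simp only [Finset.mem_coe, Set.mem_toFinset, SetLike.mem_coe, mem_fx, smul_sub,
            hmem y hy, hmem x hx]
          abel
      _ = Nat.card (fx V G) := by rw [Nat.card_eq_fintype_card, Set.toFinset_card]; rfl
      _ ≤ Nat.card (fx V k) := Nat.card_le_card_of_injective (AddSubgroup.inclusion hle)
          (AddSubgroup.inclusion_injective hle)
      _ = q := c.card_fx_eq hk
  have h1 := Finset.card_nsmul_le_sum _ _ _ hlow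
  have h2 := Finset.sum_le_card_nsmul _ _ _ hup
  rw [hdouble] at h1
  have h3 := h1.trans h2
  rw [smul_eq_mul, smul_eq_mul, hcardV] at h3
  have hq := c.two_le_q
  have h4 : Nat.card H / (μ + 1) - 1 ≤ q :=
    Nat.le_of_mul_le_mul_left h3 (by nlinarith [Nat.sub_add_cancel (show 1 ≤ q * q by nlinarith)])
  obtain ⟨v, hv⟩ : ∃ v : V, v ≠ 0 := by
    obtain ⟨x, hx⟩ := ha.exists_im_ne (V := V)
    exact ⟨_, hx⟩
  have h5 := horb v hv
  rw [← h5, Nat.mul_div_cancel _ (Nat.succ_pos μ)] at h4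
  rw [← h5]
  exact Nat.mul_le_mul_right _ (by omega)

/-- There are `q + 1` reflections, with distinct fixed spaces, and `|H| = 2(q+1)`. -/
lemma structure_refl : Nat.card H = 2 * (q + 1) ∧ {r : H | Refl V r}.ncard = q + 1 ∧
    ∀ r s : H, Refl V r → Refl V s → fx V r = fx V s → r = s := by
  classical
  obtain ⟨a, b, hab⟩ := c.exists_nc
  have ha := hab.left
  set μ := {t : H | Refl V t ∧ fx V t = fx V a}.ncard with hμ
  have hμ1 : 1 ≤ μ := (Set.ncard_pos (Set.toFinite _)).2 ⟨a, ha, rfl⟩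
  have hR := c.card_refl ha
  set R := {r : H | Refl V r} with hR'
  set E := (fun r => a * r) '' (R \ {t : H | Refl V t ∧ fx V t = fx V a}) with hE
  have hEc : E.ncard = q * μ := by
    rw [hE, Set.ncard_image_of_injective _ (mul_right_injective a),
      Set.ncard_sdiff (fun t ht => ht.1) (Set.toFinite _), hR, ← hμ]
    rw [add_one_mul, Nat.add_sub_cancel]
  have hq := c.two_le_q
  have hfpf : ∀ x ∈ E, fx V x = ⊥ := by
    rintro _ ⟨r, ⟨hr, hne⟩, rfl⟩
    exact c.mul_fpf ha hr fun e => hne ⟨hr, e.symm⟩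
  have hdisj : Disjoint E R := by
    refine Set.disjoint_left.2 fun x hx hxR => ?_
    have h1 := c.card_fx_eq hxR
    rw [hfpf x hx, AddSubgroup.card_bot] at h1
    omega
  have h1n : (1 : H) ∉ E ∪ R := by
    rintro (h | h)
    · have h1 : Nat.card (fx V (1 : H)) = 1 := by rw [hfpf 1 h, AddSubgroup.card_bot]
      rw [fx_one, AddSubgroup.card_top, c.card_V] at h1
      nlinarith
    · exact h.ne_one rfl
  have hlow : 1 + (q + 1) * μ + q * μ ≤ Nat.card H := by
    have := Set.ncard_le_ncard (Set.subset_univ (insert 1 (E ∪ R))) (Set.toFinite _)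
    rw [Set.ncard_insert_of_notMem h1n (Set.toFinite _),
      Set.ncard_union_eq hdisj (Set.toFinite _) (Set.toFinite _), hEc, hR, Set.ncard_univ, ← hμ]
      at this
    omega
  have hup := c.card_le_of_pairs ha
  rw [← hμ] at hup
  have hμe : μ = 1 := by nlinarith
  refine ⟨?_, by rw [hR, ← hμ, hμe, mul_one], fun r s hr hs e => ?_⟩
  · rw [hμe] at hlow hup; omega
  · have h1 : {t : H | Refl V t ∧ fx V t = fx V s}.ncard = 1 := by
      rw [← c.ncard_fx_const ha hs, ← hμ, hμe]
    obtain ⟨x, hx⟩ := Set.ncard_eq_one.1 h1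
    have hr' : r ∈ {t : H | Refl V t ∧ fx V t = fx V s} := ⟨hr, e⟩
    have hs' : s ∈ {t : H | Refl V t ∧ fx V t = fx V s} := ⟨hs, rfl⟩
    rw [hx, Set.mem_singleton_iff] at hr' hs'
    rw [hr', hs']

lemma mul_not_refl {g r : H} (hg : Refl V g) (hr : Refl V r) : ¬ Refl V (g * r) := fun h => by
  rcases eq_or_ne g r with rfl | hne
  · exact h.ne_one (c.ctx.sq hg)
  have h1 := c.card_fx_eq h
  rw [c.mul_fpf hg hr fun e => hne (c.structure_refl.2.2 g r hg hr e), AddSubgroup.card_bot] at h1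
  have := c.two_le_q
  omega

lemma exists_mul_of_not_refl {g t : H} (hg : Refl V g) (ht : ¬ Refl V t) :
    ∃ r : H, Refl V r ∧ g * r = t := by
  classical
  have hc := c.structure_refl
  have hsub : (fun r => g * r) '' {r : H | Refl V r} ⊆ {r : H | Refl V r}ᶜ := by
    rintro _ ⟨r, hr, rfl⟩
    exact c.mul_not_refl hg hr
  have heq := Set.eq_of_subset_of_ncard_le hsub (by
    rw [Set.ncard_compl, Set.ncard_image_of_injective _ (mul_right_injective g), hc.1, hc.2.1]
    omega) (Set.toFinite _)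
  have : t ∈ {r : H | Refl V r}ᶜ := ht
  rwa [← heq] at this

/-- The subgroup of non-reflections. -/
def rot : Subgroup H where
  carrier := {t | ¬ Refl V t}
  one_mem' h := h.ne_one rfl
  inv_mem' {t} ht h := by
    have h1 := c.ctx.inv_eq h
    rw [inv_inv] at h1
    exact ht (h1 ▸ h)
  mul_mem' {t u} ht hu := by
    obtain ⟨a, b, hab⟩ := c.exists_nc
    have hti : ¬ Refl V t⁻¹ := fun h => by
      have h1 := c.ctx.inv_eq h
      rw [inv_inv] at h1
      exact ht (h1 ▸ h)
    obtain ⟨r, hr, hrt⟩ := c.exists_mul_of_not_refl hab.left hti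
    obtain ⟨s, hs, rfl⟩ := c.exists_mul_of_not_refl hab.left hu
    have ht' : t = r * a := by
      have h1 := congrArg (·⁻¹) hrt
      simp only [mul_inv_rev, inv_inv, c.ctx.inv_eq hr, c.ctx.inv_eq hab.left] at h1
      exact h1.symm
    show ¬ Refl V (t * (a * s))
    rw [ht', mul_assoc, ← mul_assoc a a s, c.ctx.sq hab.left, one_mul]
    exact c.mul_not_refl hr hs

lemma mem_rot {t : H} : t ∈ c.rot ↔ ¬ Refl V t := Iff.rfl

lemma card_rot : Nat.card c.rot = q + 1 := by
  have h := c.structure_refl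
  have : Nat.card c.rot = ({r : H | Refl V r}ᶜ : Set H).ncard := by
    rw [← Nat.card_coe_set_eq]; rfl
  rw [this, Set.ncard_compl, h.1, h.2.1]
  omega

lemma rot_conj {g t : H} (hg : Refl V g) (ht : t ∈ c.rot) : g * t * g = t⁻¹ := by
  obtain ⟨r, hr, rfl⟩ := c.exists_mul_of_not_refl hg ht
  rw [mul_inv_rev, c.ctx.inv_eq hg, c.ctx.inv_eq hr, ← mul_assoc, c.ctx.sq hg, one_mul]

lemma rot_comm {t u : H} (ht : t ∈ c.rot) (hu : u ∈ c.rot) : t * u = u * t := by
  obtain ⟨a, b, hab⟩ := c.exists_nc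
  have ha := hab.left
  have h : (t * u)⁻¹ = t⁻¹ * u⁻¹ := by
    rw [← c.rot_conj ha (c.rot.mul_mem ht hu), ← c.rot_conj ha ht, ← c.rot_conj ha hu]
    calc a * (t * u) * a = a * t * (a * a) * u * a := by rw [c.ctx.sq ha]; group
      _ = a * t * a * (a * u * a) := by group
  have h2 := congrArg (·⁻¹) h
  simp only [inv_inv, mul_inv_rev] at h2
  exact h2

lemma rot_fpf {t : H} (ht : t ∈ c.rot) (ht1 : t ≠ 1) {v : V} (hv : t • v = v) : v = 0 := by
  by_contra hv0
  exact ht (c.refl_of_fixed hv0 ht1 hv)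

/-- The rotation subgroup is irreducible. -/
lemma rot_irred (W : AddSubgroup V) (hW : ∀ t ∈ c.rot, ∀ w ∈ W, t • w ∈ W) :
    W = ⊥ ∨ W = ⊤ := by
  classical
  by_contra! hcon
  obtain ⟨hbot, htop⟩ := hcon
  have : Fact p.Prime := ⟨c.ctx.prime⟩
  obtain ⟨n, hn⟩ : ∃ n, Nat.card V = p ^ n := by
    refine ⟨_, Nat.eq_prime_pow_of_unique_prime_dvd Nat.card_pos.ne' fun {r} hr hd => ?_⟩
    have : Fact r.Prime := ⟨hr⟩
    obtain ⟨x, hx⟩ := exists_prime_addOrderOf_dvd_card' r hd
    have h1 : r ∣ p := hx ▸ addOrderOf_dvd_of_nsmul_eq_zero (c.ctx.char x)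
    exact (Nat.prime_dvd_prime_iff_eq hr c.ctx.prime).1 h1
  have hqd : q ∣ p ^ n := hn ▸ c.card_V ▸ dvd_mul_right q q
  obtain ⟨e, -, he⟩ := (Nat.dvd_prime_pow c.ctx.prime).1 hqd
  obtain ⟨i, -, hi⟩ := (Nat.dvd_prime_pow c.ctx.prime).1 (hn ▸ W.card_addSubgroup_dvd_card)
  let S : SubMulAction c.rot V :=
    { carrier := {w | w ∈ W ∧ w ≠ 0}
      smul_mem' := fun t w hw =>
        ⟨hW t t.2 w hw.1, fun e => hw.2 (smul_eq_zero_iff_eq (t : H) |>.1 e)⟩ }
  have hfree : ∀ w : S, MulAction.stabilizer c.rot w = ⊥ := by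
    intro w
    rw [Subgroup.eq_bot_iff_forall]
    intro t ht
    by_contra ht1
    exact w.2.2 (c.rot_fpf t.2 (fun e => ht1 (Subtype.ext e))
      (congrArg Subtype.val (MulAction.mem_stabilizer_iff.1 ht)))
  have hdvd : q + 1 ∣ Nat.card S := by
    rw [Nat.card_congr (MulAction.selfEquivOrbitsQuotientProd hfree), Nat.card_prod, c.card_rot]
    exact dvd_mul_left _ _
  have hS : Nat.card S = Nat.card W - 1 := by
    have : Nat.card S = ((W : Set V) \ {0}).ncard := by
      rw [← Nat.card_coe_set_eq]; rfl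
    rw [this, Set.ncard_sdiff_singleton_of_mem W.zero_mem, ← Nat.card_coe_set_eq]
    rfl
  rw [hS, hi, he] at hdvd
  have h1 : 1 < p ^ i := hi ▸ W.one_lt_card_iff_ne_bot.2 hbot
  have h2 : p ^ i < p ^ (2 * e) := by
    have h3 : Nat.card W < Nat.card V := by
      by_contra! h
      exact htop (AddSubgroup.eq_top_of_le_card W h)
    rw [hi, c.card_V, he, ← pow_add, ← two_mul] at h3
    exact h3
  have hp2 := c.ctx.prime.two_le
  refine arith_irred hp2 ?_ ((Nat.pow_lt_pow_iff_right (by omega)).1 h2) hdvd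
  rcases Nat.eq_zero_or_pos i with rfl | h
  · simp at h1
  · exact h

end NCtx

end Cfsg.Agent.BinaryAffine
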