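import Cfsg.Agent.Lib.BinaryAffine.Count

/-!
# Binary affine groups: the field and the abstract classification (S5753)
-/

set_option autoImplicit false

namespace Cfsg.Agent.BinaryAffine

variable {H : Type*} [Group H] {V : Type} [AddCommGroup V] [DistribMulAction H V]

variable (H V) in
/-- The linear representation. -/
abbrev rho : H →* AddMonoid.End V := DistribMulAction.toAddMonoidEnd H V

@[simp] lemma rho_apply (h : H) (v : V) : rho H V h v = h • v := rfl

namespace NCtx

variable [Finite H] [Finite V] [FaithfulSMul H V] {p q : ℕ} (c : NCtx H V p q)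
include c

lemma field_model : ∃ (F E : Type) (_ : Field F) (_ : Fintype F) (_ : Field E) (_ : Fintype E)
    (_ : Algebra F E) (e : V ≃+ E), Module.finrank F E = 2 ∧
      ∀ f : V → V, (∃ h : H, ∀ v, f v = h • v) ↔
        ∃ (a : E) (φ : E ≃ₐ[F] E), Algebra.norm F a = 1 ∧ ∀ v, e (f v) = a * φ (e v) := by
  classical
  obtain ⟨g, b, hgb⟩ := c.exists_nc
  have hg := hgb.left
  set K : Subring (AddMonoid.End V) :=
    Subring.centralizer (rho H V '' (c.rot : Set H)) with hK
  have hcomm : ∀ k : K, ∀ t ∈ c.rot, ∀ v : V, t • (k : AddMonoid.End V) v =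
      (k : AddMonoid.End V) (t • v) := fun k t ht v => by
    have h := Subring.mem_centralizer_iff.1 k.2 _ ⟨t, ht, rfl⟩
    exact DFunLike.congr_fun h v
  let τ : c.rot → K := fun t => ⟨rho H V (t : H), Subring.mem_centralizer_iff.2 (by
    rintro _ ⟨u, hu, rfl⟩
    rw [← map_mul, ← map_mul, c.rot_comm hu t.2])⟩
  have hτinj : Function.Injective τ := fun t u e => Subtype.ext
    (FaithfulSMul.eq_of_smul_eq_smul fun v : V => DFunLike.congr_fun (congrArg Subtype.val e) v)
  obtain ⟨x0, hx0⟩ : ∃ x0, x0 ∈ fx V g ∧ x0 ≠ (0 : V) := by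
    by_contra! h
    have h1 := c.card_fx_eq hg
    rw [(AddSubgroup.eq_bot_iff_forall _).2 h, AddSubgroup.card_bot] at h1
    have := c.two_le_q
    omega
  obtain ⟨hv0g, hv0⟩ := hx0
  set v0 := x0
  have hgv0 : g • v0 = v0 := mem_fx.1 hv0g
  have hker : ∀ (k : K) (v : V), v ≠ 0 → (k : AddMonoid.End V) v = 0 → k = 0 := by
    intro k v hv hkv
    let W : AddSubgroup V :=
      { carrier := {w | (k : AddMonoid.End V) w = 0}
        zero_mem' := map_zero _
        add_mem' := fun {a b} ha hb => by
          simp only [Set.mem_setOf_eq] at ha hb ⊢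
          rw [map_add, ha, hb, add_zero]
        neg_mem' := fun {a} ha => by
          simp only [Set.mem_setOf_eq] at ha ⊢
          rw [map_neg, ha, neg_zero] }
    have htop : W = ⊤ := (c.rot_irred W fun t ht w hw => by
      show (k : AddMonoid.End V) (t • w) = 0
      rw [← hcomm k t ht, show (k : AddMonoid.End V) w = 0 from hw, smul_zero]).resolve_left
        fun e => hv ((AddSubgroup.eq_bot_iff_forall W).1 e v hkv)
    refine Subtype.ext (DFunLike.ext _ _ fun w => ?_)
    exact (show w ∈ W by rw [htop]; exact AddSubgroup.mem_top w)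
  have : Finite (AddMonoid.End V) := Finite.of_injective _ DFunLike.coe_injective
  have : Nontrivial K := ⟨⟨1, 0, fun e => hv0 (by
    have := DFunLike.congr_fun (congrArg Subtype.val e) v0
    simpa using this)⟩⟩
  have : NoZeroDivisors K := ⟨fun {a b} hab => by
    by_contra! h
    obtain ⟨ha, hb⟩ := h
    apply hb
    refine Subtype.ext (DFunLike.ext _ _ fun w => ?_)
    show (b : AddMonoid.End V) w = 0
    by_contra hw
    exact ha (hker a _ hw (DFunLike.congr_fun (congrArg Subtype.val hab) w))⟩
  have : IsDomain K := NoZeroDivisors.to_isDomain K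
  letI : Field K := (Finite.isDomain_to_isField K).toField
  let ev : K →+ V :=
    { toFun := fun k => (k : AddMonoid.End V) v0
      map_zero' := rfl
      map_add' := fun _ _ => rfl }
  have hev : Function.Bijective ev := by
    refine ⟨(injective_iff_map_eq_zero ev).2 fun k hk => hker k v0 hv0 hk, fun v => ?_⟩
    have : ev.range = ⊤ := (c.rot_irred ev.range fun t ht w hw => by
      obtain ⟨k, rfl⟩ := hw
      exact ⟨τ ⟨t, ht⟩ * k, rfl⟩).resolve_left
        fun e => hv0 ((AddSubgroup.eq_bot_iff_forall _).1 e v0 ⟨1, rfl⟩)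
    exact AddMonoidHom.mem_range.1 (this ▸ AddSubgroup.mem_top v)
  let e : K ≃+ V := AddEquiv.ofBijective ev hev
  have he : ∀ k : K, e k = (k : AddMonoid.End V) v0 := fun k => rfl
  have hgg : ∀ x : AddMonoid.End V, rho H V g * (rho H V g * x) = x := fun x => by
    rw [← mul_assoc, ← map_mul, c.ctx.sq hg, map_one, one_mul]
  let cj : AddMonoid.End V → AddMonoid.End V := fun x => rho H V g * x * rho H V g
  have hcj2 : ∀ x, cj (cj x) = x := fun x => by
    simp only [cj, mul_assoc]
    rw [hgg, ← map_mul, c.ctx.sq hg, map_one, mul_one]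
  have hcjK : ∀ k : K, cj k ∈ K := by
    intro k
    refine Subring.mem_centralizer_iff.2 ?_
    rintro _ ⟨t, ht, rfl⟩
    refine DFunLike.ext _ _ fun v => ?_
    show t • g • (k : AddMonoid.End V) (g • v) = g • (k : AddMonoid.End V) (g • t • v)
    have h1 : t * g = g * t⁻¹ := by
      rw [← c.rot_conj hg ht, ← mul_assoc, ← mul_assoc, c.ctx.sq hg, one_mul]
    have h2 : t⁻¹ * g = g * t := by
      rw [← c.rot_conj hg ht, mul_assoc, c.ctx.sq hg, mul_one]
    rw [← mul_smul t g, h1, mul_smul, hcomm k _ (c.rot.inv_mem ht), ← mul_smul t⁻¹ g, h2, mul_smul]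
  let σ : K ≃+* K :=
    { toFun := fun k => ⟨cj k, hcjK k⟩
      invFun := fun k => ⟨cj k, hcjK k⟩
      left_inv := fun k => Subtype.ext (hcj2 _)
      right_inv := fun k => Subtype.ext (hcj2 _)
      map_mul' := fun k l => Subtype.ext (by
        show cj ((k : AddMonoid.End V) * l) = cj k * cj l
        simp only [cj, mul_assoc]
        rw [hgg])
      map_add' := fun k l => Subtype.ext (by
        show cj ((k : AddMonoid.End V) + l) = cj k + cj l
        simp only [cj, mul_add, add_mul]) }
  have hσv : ∀ k : K, e (σ k) = g • e k := fun k => by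
    show g • (k : AddMonoid.End V) (g • v0) = g • (k : AddMonoid.End V) v0
    rw [hgv0]
  let F : Subfield K := RingHom.eqLocusField σ.toRingHom (RingHom.id K)
  have hFmem : ∀ k : K, k ∈ F ↔ σ k = k := fun k => Iff.rfl
  have : Fintype F := Fintype.ofFinite F
  have : Fintype K := Fintype.ofFinite K
  have hcF : Nat.card F = q := by
    rw [← c.card_fx_eq hg]
    refine Nat.card_eq_of_bijective (fun k => ⟨e (k : K), ?_⟩)
      ⟨fun x y h => Subtype.ext (e.injective (congrArg Subtype.val h)), fun v => ?_⟩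
    · rw [mem_fx, ← hσv, (hFmem k).1 k.2]
    · obtain ⟨k, hk⟩ := e.surjective v.1
      refine ⟨⟨k, (hFmem k).2 (e.injective ?_)⟩, Subtype.ext hk⟩
      rw [hσv, hk]
      exact mem_fx.1 v.2
  have hcK : Nat.card K = q * q := by rw [Nat.card_congr e.toEquiv, c.card_V]
  have hq2 := c.two_le_q
  have hfr : Module.finrank F K = 2 := by
    have := Module.natCard_eq_pow_finrank (K := F) (V := K)
    rw [hcK, hcF, ← pow_two] at this
    exact (Nat.pow_right_injective hq2 this).symm
  let σ' : K ≃ₐ[F] K := AlgEquiv.ofRingEquiv (f := σ) fun x => (hFmem _).1 x.2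
  have hσ' : ∀ k, σ' k = σ k := fun k => rfl
  have hσ1 : σ' ≠ 1 := by
    intro h
    have hall : ∀ k : K, k ∈ F := fun k => (hFmem k).2 (by
      rw [← hσ', h]; rfl)
    have : Nat.card K ≤ Nat.card F :=
      Nat.card_le_card_of_injective (fun k => (⟨k, hall k⟩ : F))
        (fun x y e => congrArg Subtype.val e)
    rw [hcK, hcF] at this
    nlinarith
  have haut : ∀ φ : K ≃ₐ[F] K, φ = 1 ∨ φ = σ' := by
    intro φ
    have h2 : Nat.card (K ≃ₐ[F] K) = 2 := by rw [IsGalois.card_aut_eq_finrank, hfr]
    obtain ⟨y, hy, huniq⟩ := (Nat.card_eq_two_iff' (1 : K ≃ₐ[F] K)).1 h2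
    by_cases hφ : φ = 1
    · exact Or.inl hφ
    · exact Or.inr ((huniq φ hφ).trans (huniq σ' hσ1).symm)
  have hfrob : ∀ a : K, σ a = a ^ q := by
    intro a
    rcases haut (FiniteField.frobeniusAlgEquivOfAlgebraic F K) with h | h
    · exfalso
      have := FiniteField.orderOf_frobeniusAlgEquivOfAlgebraic F K
      rw [h, orderOf_one, hfr] at this
      omega
    · rw [← hσ', ← h, FiniteField.coe_frobeniusAlgEquivOfAlgebraic, ← Nat.card_eq_fintype_card,
        hcF]
  have hnorm : ∀ a : K, Algebra.norm F a = 1 ↔ a * σ a = 1 := by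
    intro a
    have h := Algebra.norm_eq_prod_automorphisms F a
    have hu : (Finset.univ : Finset (K ≃ₐ[F] K)) = {1, σ'} := by
      ext φ; simpa using haut φ
    rw [hu, Finset.prod_pair (Ne.symm hσ1)] at h
    change algebraMap F K (Algebra.norm F a) = a * σ a at h
    rw [← h]
    exact (map_eq_one_iff _ (algebraMap F K).injective).symm
  have hτnorm : ∀ t : c.rot, Algebra.norm F (τ t) = 1 := by
    intro t
    rw [hnorm]
    refine Subtype.ext ?_
    show rho H V (t : H) * (rho H V g * rho H V (t : H) * rho H V g) = 1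
    rw [← map_mul, ← map_mul, ← map_mul, c.rot_conj hg t.2, mul_inv_cancel, map_one]
  have hone : ∀ a : K, Algebra.norm F a = 1 → ∃ t, τ t = a := by
    intro a ha
    have hsub : Set.range τ ⊆ {x : K | Algebra.norm F x = 1} := by
      rintro _ ⟨t, rfl⟩; exact hτnorm t
    have hle : {x : K | Algebra.norm F x = 1}.ncard ≤ (Set.range τ).ncard := by
      rw [← Nat.card_coe_set_eq (Set.range τ), Nat.card_range_of_injective hτinj, c.card_rot]
      have h1 : {x : K | Algebra.norm F x = 1} ⊆
          ((Polynomial.nthRoots (q + 1) (1 : K)).toFinset : Set K) := by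
        intro x hx
        rw [Finset.mem_coe, Multiset.mem_toFinset, Polynomial.mem_nthRoots (by omega), pow_succ',
          ← hfrob]
        exact (hnorm x).1 hx
      refine (Set.ncard_le_ncard h1 (Set.toFinite _)).trans ?_
      rw [Set.ncard_coe_finset]
      exact (Multiset.toFinset_card_le _).trans (Polynomial.card_nthRoots _ _)
    have : a ∈ Set.range τ := by
      rw [Set.eq_of_subset_of_ncard_le hsub hle (Set.toFinite _)]; exact ha
    exact this
  have hmul : ∀ (t : c.rot) (v : V), e.symm ((t : H) • v) = τ t * e.symm v := fun t v => by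
    rw [AddEquiv.symm_apply_eq]
    show (t : H) • v = (t : H) • e (e.symm v)
    rw [AddEquiv.apply_symm_apply]
  have hgs : ∀ v : V, e.symm (g • v) = σ (e.symm v) := fun v => by
    rw [AddEquiv.symm_apply_eq, hσv, AddEquiv.apply_symm_apply]
  refine ⟨F, K, inferInstance, inferInstance, inferInstance, inferInstance, inferInstance,
    e.symm, hfr, fun f => ⟨?_, ?_⟩⟩
  · rintro ⟨h, hh⟩
    by_cases hr : Refl V h
    · refine ⟨τ ⟨h * g, c.mul_not_refl hr hg⟩, σ', hτnorm _, fun v => ?_⟩
      rw [hh, hσ', ← hgs, ← hmul]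
      congr 1
      rw [← mul_smul, mul_assoc, c.ctx.sq hg, mul_one]
    · refine ⟨τ ⟨h, hr⟩, 1, hτnorm _, fun v => ?_⟩
      rw [hh, AlgEquiv.one_apply, ← hmul]
  · rintro ⟨a, φ, ha, hf⟩
    obtain ⟨t, rfl⟩ := hone a ha
    rcases haut φ with rfl | rfl
    · refine ⟨t, fun v => e.symm.injective ?_⟩
      rw [hf, AlgEquiv.one_apply, ← hmul]
    · refine ⟨(t : H) * g, fun v => e.symm.injective ?_⟩
      rw [hf, hσ', mul_smul, hmul, hgs]

end NCtx

/-- The abstract classification. -/
theorem classification [Finite H] [Finite V] [Nontrivial V] [FaithfulSMul H V] {p : ℕ}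
    (c : Ctx H V p) :
    ((Nat.card V).Prime ∧ Nat.card H ≤ 2) ∨
    ∃ (F E : Type) (_ : Field F) (_ : Fintype F) (_ : Field E) (_ : Fintype E)
      (_ : Algebra F E) (e : V ≃+ E), Module.finrank F E = 2 ∧
      ∀ f : V → V, (∃ h : H, ∀ v, f v = h • v) ↔
        ∃ (a : E) (φ : E ≃ₐ[F] E), Algebra.norm F a = 1 ∧ ∀ v, e (f v) = a * φ (e v) := by
  by_cases hall : ∀ g k : H, Refl V g → Refl V k → g * k = k * g
  · exact Or.inl (c.of_all_commute hall)
  · push Not at hall
    obtain ⟨a, b, ha, hb, hne⟩ := hall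
    have hab : NC V a b := ⟨ha, hb, hne⟩
    refine Or.inr (NCtx.field_model (q := Nat.card (im V a))
      ⟨c, ⟨a, b, hab⟩, fun r hr => c.card_im_eq hab hr⟩)

end Cfsg.Agent.BinaryAffine
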