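import Cfsg.Agent.Lib.BinaryAffine.Refl

/-!
# Binary affine groups: lines of reflections (S5753)
-/

set_option autoImplicit false

namespace Cfsg.Agent.BinaryAffine

variable {H : Type*} [Group H] {V : Type} [AddCommGroup V] [DistribMulAction H V]

variable (H) in
/-- Hypotheses in the noncommuting case; `q` is the common size of the images of reflections. -/
structure NCtx (V : Type) [AddCommGroup V] [DistribMulAction H V] (p q : ℕ) : Prop where
  ctx : Ctx H V p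
  exists_nc : ∃ a b : H, NC V a b
  hq : ∀ r : H, Refl V r → Nat.card (im V r) = q

/-- An intersection of the fixed spaces of two noncommuting reflections. -/
def Nondeg (H : Type*) {V : Type} [Group H] [AddCommGroup V] [DistribMulAction H V]
    (X : AddSubgroup V) : Prop :=
  ∃ a b : H, NC V a b ∧ X = fx V a ⊓ fx V b

/-- The fixed spaces of reflections containing `X`. -/
def lines (H : Type*) {V : Type} [Group H] [AddCommGroup V] [DistribMulAction H V]
    (X : AddSubgroup V) : Set (AddSubgroup V) :=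
  {Φ | ∃ r : H, Refl V r ∧ X ≤ fx V r ∧ fx V r = Φ}

lemma card_cover [Finite V] (F : Set (AddSubgroup V)) (W Z : AddSubgroup V) (M : ℕ)
    (hZ : ∀ Φ ∈ F, Z ≤ Φ) (hW : ∀ Φ ∈ F, Φ ≤ W) (hZW : Z ≤ W)
    (hd : ∀ Φ ∈ F, ∀ Ψ ∈ F, Φ ≠ Ψ → Φ ⊓ Ψ ≤ Z)
    (hc : ∀ w ∈ W, w ∈ Z ∨ ∃ Φ ∈ F, w ∈ Φ) (hM : ∀ Φ ∈ F, Nat.card Φ = M) :
    Nat.card W + F.ncard * Nat.card Z = Nat.card Z + F.ncard * M := by
  classical
  have : Fintype V := Fintype.ofFinite V
  have : Finite (AddSubgroup V) := Finite.of_injective _ SetLike.coe_injective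
  have hF : F.Finite := Set.toFinite F
  let T : AddSubgroup V → Finset V := fun A => (A : Set V).toFinset
  have hT : ∀ (A : AddSubgroup V) (v : V), v ∈ T A ↔ v ∈ A := fun A v => Set.mem_toFinset
  have hTc : ∀ A : AddSubgroup V, (T A).card = Nat.card A := fun A => by
    rw [Nat.card_eq_fintype_card, Set.toFinset_card]; rfl
  have hunion : hF.toFinset.biUnion (fun Φ => T Φ \ T Z) = T W \ T Z := by
    ext v
    simp only [Finset.mem_biUnion, Finset.mem_sdiff, hT, Set.Finite.mem_toFinset]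
    constructor
    · rintro ⟨Φ, hΦ, h1, h2⟩
      exact ⟨hW Φ hΦ h1, h2⟩
    · rintro ⟨h1, h2⟩
      obtain ⟨Φ, hΦ, hv⟩ := (hc v h1).resolve_left h2
      exact ⟨Φ, hΦ, hv, h2⟩
  have hsum : (T W \ T Z).card = ∑ Φ ∈ hF.toFinset, (T Φ \ T Z).card := by
    rw [← hunion]
    refine Finset.card_biUnion fun Φ hΦ Ψ hΨ hne => ?_
    simp only [Finset.disjoint_left, Finset.mem_sdiff, hT]
    rintro v ⟨h1, h2⟩ ⟨h3, -⟩
    exact h2 (hd Φ ((Set.Finite.mem_toFinset hF).1 hΦ) Ψ ((Set.Finite.mem_toFinset hF).1 hΨ) hne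
      ⟨h1, h3⟩)
  have hsd : ∀ A : AddSubgroup V, Z ≤ A → (T A \ T Z).card + Nat.card Z = Nat.card A := by
    intro A hA
    rw [← hTc, ← hTc]
    exact Finset.card_sdiff_add_card_eq_card (fun v hv => (hT A v).2 (hA ((hT Z v).1 hv)))
  have hconst : ∀ Φ ∈ hF.toFinset, (T Φ \ T Z).card + Nat.card Z = M := fun Φ hΦ => by
    rw [hsd Φ (hZ Φ ((Set.Finite.mem_toFinset hF).1 hΦ)), hM Φ ((Set.Finite.mem_toFinset hF).1 hΦ)]
  have h2 : ∑ Φ ∈ hF.toFinset, ((T Φ \ T Z).card + Nat.card Z) = hF.toFinset.card * M := by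
    rw [Finset.sum_congr rfl hconst, Finset.sum_const, smul_eq_mul]
  rw [Finset.sum_add_distrib, ← hsum, Finset.sum_const, smul_eq_mul,
    ← Set.ncard_eq_toFinset_card F hF] at h2
  rw [← hsd W hZW]
  omega

namespace NCtx

variable [Finite H] [Finite V] [FaithfulSMul H V] {p q : ℕ} (c : NCtx H V p q)
include c

lemma p_dvd_q : p ∣ q := by
  obtain ⟨a, b, hab⟩ := c.exists_nc
  obtain ⟨x, hx⟩ := hab.left.exists_im_ne (V := V)
  have : Fact p.Prime := ⟨c.ctx.prime⟩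
  have h : addOrderOf (⟨_, sub_mem_im a x⟩ : im V a) = p :=
    addOrderOf_eq_prime (Subtype.ext (by simp [c.ctx.char]))
      (fun e => hx (congrArg Subtype.val e))
  rw [← c.hq a hab.left, ← h]
  exact addOrderOf_dvd_natCard _

omit [FaithfulSMul H V] in
lemma q_pos : 0 < q := by
  obtain ⟨a, b, hab⟩ := c.exists_nc
  rw [← c.hq a hab.left]
  exact Nat.card_pos

lemma p_le_q : p ≤ q := Nat.le_of_dvd c.q_pos c.p_dvd_q

lemma two_le_q : 2 ≤ q := c.ctx.prime.two_le.trans c.p_le_q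

omit [Finite H] [Finite V] [FaithfulSMul H V] in
lemma card_fx {r : H} (hr : Refl V r) : Nat.card (fx V r) * q = Nat.card V := by
  rw [← c.hq r hr, card_fx_mul_im]

lemma inf_im_sup {a b : H} (h : NC V a b) : (im V a ⊔ im V b) ⊓ (fx V a ⊓ fx V b) = ⊥ := by
  rw [AddSubgroup.eq_bot_iff_forall]
  rintro v ⟨h1, h2, h3⟩
  replace h2 : a • v = v := mem_fx.1 h2
  replace h3 : b • v = v := mem_fx.1 h3
  rcases eq_or_ne p 2 with hp | hp
  · obtain ⟨i, hi, j, hj, rfl⟩ := AddSubgroup.mem_sup.1 h1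
    have hai : a • i = i := mem_fx.1 (c.ctx.im_le_fx_of_two hp h.left hi)
    have hbj : b • j = j := mem_fx.1 (c.ctx.im_le_fx_of_two hp h.right hj)
    rw [smul_add, hai] at h2
    rw [smul_add, hbj] at h3
    have hj0 : j = 0 := (AddSubgroup.eq_bot_iff_forall _).1 (c.ctx.nc_inf h) j
      ⟨mem_fx.2 (add_left_cancel h2), hj⟩
    have hi0 : i = 0 := (AddSubgroup.eq_bot_iff_forall _).1 (c.ctx.nc_inf h.symm) i
      ⟨mem_fx.2 (add_right_cancel h3), hi⟩
    rw [hi0, hj0, add_zero]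
  · exact c.ctx.eq_zero_of_fixed hp h2 h3 h1

lemma card_inf {a b : H} (h : NC V a b) :
    Nat.card ↥(fx V a ⊓ fx V b) * q * q = Nat.card V := by
  have hdisj : im V a ⊓ im V b = ⊥ := by
    rw [AddSubgroup.eq_bot_iff_forall]
    rintro v ⟨h1, h2⟩
    exact (c.ctx.im_inter_eq_zero h.left h.right h1 h2).resolve_right h.ne
  have h1 := card_sup_mul_card_inf (im V a) (im V b)
  rw [hdisj, AddSubgroup.card_bot, mul_one, c.hq a h.left, c.hq b h.right] at h1
  have h2 := card_mul_le_of_disjoint (c.inf_im_sup h)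
  rw [h1] at h2
  have h3 := card_sup_mul_card_inf (fx V a) (fx V b)
  have h4 : Nat.card ↥(fx V a ⊔ fx V b) ≤ Nat.card V :=
    Nat.card_le_card_of_injective _ Subtype.val_injective
  have h5 := Nat.mul_le_mul_right (q * q) (Nat.mul_le_mul_right (Nat.card ↥(fx V a ⊓ fx V b)) h4)
  have h6 : Nat.card (fx V a) * Nat.card (fx V b) * (q * q) = Nat.card V * Nat.card V := by
    rw [← c.card_fx h.left]
    conv_rhs => arg 2; rw [c.card_fx h.left, ← c.card_fx h.right]
    ring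
  rw [h3, h6, mul_assoc] at h5
  have h7 := Nat.le_of_mul_le_mul_left h5 Nat.card_pos
  nlinarith

omit [Finite H] [Finite V] [FaithfulSMul H V] c in
lemma mem_fixing {X : AddSubgroup V} {g : H} :
    g ∈ fixingSubgroup H (X : Set V) ↔ X ≤ fx V g := by
  simp [mem_fixingSubgroup_iff, SetLike.le_def, mem_fx]

lemma exists_nc_line {X : AddSubgroup V} (hX : Nondeg H X) {j : H} (hj : Refl V j)
    (hXj : X ≤ fx V j) : ∃ d : H, NC V j d ∧ X ≤ fx V d := by
  obtain ⟨a, b, hab, rfl⟩ := hX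
  by_cases h1 : j * a ≠ a * j
  · exact ⟨a, ⟨hj, hab.left, h1⟩, inf_le_left⟩
  by_cases h2 : j * b ≠ b * j
  · exact ⟨b, ⟨hj, hab.right, h2⟩, inf_le_right⟩
  rw [not_ne_iff] at h1 h2
  exfalso
  rcases eq_or_ne j a with rfl | hja
  · exact hab.ncomm h2
  rcases eq_or_ne j b with rfl | hjb
  · exact hab.ncomm h1.symm
  refine hj.ne_one (eq_one_of_fx_eq_top (V := V) (eq_top_iff.2 ?_))
  have hs : fx V a ⊓ fx V b ⊔ (im V a ⊔ im V b) = ⊤ := by
    refine sup_eq_top_of_card (by rw [inf_comm]; exact c.inf_im_sup hab) ?_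
    have h1 := card_sup_mul_card_inf (im V a) (im V b)
    have hdisj : im V a ⊓ im V b = ⊥ := by
      rw [AddSubgroup.eq_bot_iff_forall]
      rintro v ⟨h1, h2⟩
      exact (c.ctx.im_inter_eq_zero hab.left hab.right h1 h2).resolve_right hab.ne
    rw [hdisj, AddSubgroup.card_bot, mul_one, c.hq a hab.left, c.hq b hab.right] at h1
    rw [h1, ← mul_assoc, c.card_inf hab]
  rw [← hs]
  exact sup_le hXj (sup_le (c.ctx.im_le_fx hj hab.left hja h1) (c.ctx.im_le_fx hj hab.right hjb h2))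

lemma im_inf_nondeg {X : AddSubgroup V} (hX : Nondeg H X) {j : H} (hj : Refl V j)
    (hXj : X ≤ fx V j) : im V j ⊓ X = ⊥ := by
  obtain ⟨d, hjd, hXd⟩ := c.exists_nc_line hX hj hXj
  refine eq_bot_iff.2 ((le_inf (inf_le_right.trans hXd) inf_le_left).trans ?_)
  rw [c.ctx.nc_inf hjd.symm]

lemma card_nondeg {X : AddSubgroup V} (hX : Nondeg H X) : Nat.card X * q * q = Nat.card V := by
  obtain ⟨a, b, hab, rfl⟩ := hX
  exact c.card_inf hab

lemma eq_of_le_nondeg {X Y : AddSubgroup V} (hY : Nat.card Y * q * q = Nat.card V) (h : X ≤ Y)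
    (hX : Nat.card X * q * q = Nat.card V) : X = Y := by
  refine eq_of_le_of_card_le h (le_of_eq ?_)
  have hq := c.q_pos
  exact Nat.eq_of_mul_eq_mul_right hq (Nat.eq_of_mul_eq_mul_right hq (hY.trans hX.symm))

lemma comm_line {X : AddSubgroup V} (hX : Nondeg H X) {j k : H} (hj : Refl V j) (hk : Refl V k)
    (hXj : X ≤ fx V j) (hXk : X ≤ fx V k) (hne : j ≠ k) (hc : j * k = k * j) :
    im V k ⊔ X = fx V j := by
  refine eq_of_le_of_card_le (sup_le (c.ctx.im_le_fx hj hk hne hc) hXj) ?_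
  have h1 := card_sup_mul_card_inf (im V k) X
  rw [c.im_inf_nondeg hX hk hXk, AddSubgroup.card_bot, mul_one, c.hq k hk] at h1
  rw [h1]
  refine le_of_eq (Nat.eq_of_mul_eq_mul_right c.q_pos ?_)
  rw [c.card_fx hj, ← c.card_nondeg hX]; ring

lemma inf_line {X : AddSubgroup V} (hX : Nondeg H X) {j k : H} (hj : Refl V j) (hk : Refl V k)
    (hXj : X ≤ fx V j) (hXk : X ≤ fx V k) (hne : fx V j ≠ fx V k) :
    fx V j ⊓ fx V k = X := by
  by_cases hc : j * k = k * j
  swap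
  · exact (c.eq_of_le_nondeg (c.card_inf ⟨hj, hk, hc⟩) (le_inf hXj hXk) (c.card_nondeg hX)).symm
  have hjk : j ≠ k := fun e => hne (by rw [e])
  have e1 := c.comm_line hX hj hk hXj hXk hjk hc
  rcases eq_or_ne p 2 with hp | hp
  · exfalso
    have e2 := c.comm_line hX hk hj hXk hXj hjk.symm hc.symm
    refine hne (eq_of_le_of_card_le (A := fx V k) ?_ (le_of_eq ?_)).symm
    · rw [← e2]; exact sup_le (c.ctx.im_le_fx_of_two hp hj) hXj
    · exact Nat.eq_of_mul_eq_mul_right c.q_pos ((c.card_fx hj).trans (c.card_fx hk).symm)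
  · refine le_antisymm ?_ (le_inf hXj hXk)
    rintro v ⟨h1, h2⟩
    rw [SetLike.mem_coe, ← e1] at h1
    obtain ⟨i, hi, x, hx, rfl⟩ := AddSubgroup.mem_sup.1 h1
    have : i ∈ fx V k := by
      have := AddSubgroup.sub_mem _ h2 (hXk hx)
      rwa [add_sub_cancel_right] at this
    rw [(AddSubgroup.eq_bot_iff_forall _).1 (c.ctx.im_inf_fx hp hk) i ⟨hi, this⟩, zero_add]
    exact hx

lemma cover {X : AddSubgroup V} (hX : Nondeg H X) (v : V) :
    ∃ r : H, Refl V r ∧ X ≤ fx V r ∧ v ∈ fx V r := by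
  obtain ⟨a, b, hab, rfl⟩ := hX
  set L := fixingSubgroup H ((fx V a ⊓ fx V b : AddSubgroup V) : Set V) with hL
  have ha : a ∈ L := mem_fixing.2 inf_le_left
  have hb : b ∈ L := mem_fixing.2 inf_le_right
  by_cases hreg : ∀ l ∈ L, l • v = v → l = 1
  · have hsq := fun h hh => (c.ctx.bin.fixing _).sq_eq_one (L := L) hreg (h := h) hh
    exfalso
    apply hab.ncomm
    have := inv_eq_of_mul_eq_one_right (hsq (a * b) (L.mul_mem ha hb))
    rw [mul_inv_rev, inv_eq_of_mul_eq_one_right (hsq a ha),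
      inv_eq_of_mul_eq_one_right (hsq b hb)] at this
    exact this.symm
  · push Not at hreg
    obtain ⟨l, hl, hlv, hl1⟩ := hreg
    obtain ⟨r, hr, hle⟩ := exists_refl_above (V := V) hl1
    exact ⟨r, hr, (mem_fixing.1 hl).trans hle, hle (mem_fx.2 hlv)⟩

lemma ncard_lines {X : AddSubgroup V} (hX : Nondeg H X) : (lines H X).ncard = q + 1 := by
  obtain ⟨a, b, hab, hXe⟩ := hX
  have hX : Nondeg H X := ⟨a, b, hab, hXe⟩
  have hcount := card_cover (lines H X) ⊤ X (Nat.card (fx V a))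
    (fun Φ ⟨r, _, h, e⟩ => e ▸ h) (fun _ _ => le_top) le_top
    (fun Φ ⟨r, hr, h, e⟩ Ψ ⟨s, hs, h', e'⟩ hne => by
      subst e e'
      exact (c.inf_line hX hr hs h h' hne).le)
    (fun v _ => by
      obtain ⟨r, hr, h, hv⟩ := c.cover hX v
      exact Or.inr ⟨_, ⟨r, hr, h, rfl⟩, hv⟩)
    (fun Φ ⟨r, hr, _, e⟩ => by
      subst e
      exact Nat.eq_of_mul_eq_mul_right c.q_pos ((c.card_fx hr).trans (c.card_fx hab.left).symm))
  rw [AddSubgroup.card_top, ← c.card_nondeg hX] at hcount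
  have hΦ : Nat.card (fx V a) = Nat.card X * q :=
    Nat.eq_of_mul_eq_mul_right c.q_pos ((c.card_fx hab.left).trans (c.card_nondeg hX).symm)
  rw [hΦ] at hcount
  have hpos : 0 < Nat.card X := Nat.card_pos
  have hq := c.two_le_q
  have h2 : (q * q + (lines H X).ncard : ℤ) = 1 + (lines H X).ncard * q := by
    have h0 : (Nat.card X : ℤ) * (q * q + (lines H X).ncard) =
        Nat.card X * (1 + (lines H X).ncard * q) := by
      have := congrArg (Nat.cast (R := ℤ)) hcount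
      push_cast at this
      linarith
    exact mul_left_cancel₀ (by positivity) h0
  have h3 : ((lines H X).ncard : ℤ) * ((q : ℤ) - 1) = ((q : ℤ) + 1) * ((q : ℤ) - 1) := by linarith
  have h4 := mul_right_cancel₀ (by omega) h3
  exact_mod_cast h4

/-- In odd characteristic all distinct fixed spaces meet in codimension `2e`. -/
lemma gen_odd (hp : p ≠ 2) {j k : H} (hj : Refl V j) (hk : Refl V k)
    (hne : fx V j ≠ fx V k) : Nat.card ↥(fx V j ⊓ fx V k) * q * q = Nat.card V := by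
  by_cases hc : j * k = k * j
  swap
  · exact c.card_inf ⟨hj, hk, hc⟩
  have hjk : j ≠ k := fun e => hne (by rw [e])
  have hle : im V k ≤ fx V j := c.ctx.im_le_fx hj hk hjk hc
  have hsup : fx V j ⊔ fx V k = ⊤ := by
    refine top_le_iff.1 ((le_of_eq ?_).trans (sup_le_sup_left (c.ctx.im_le_fx hk hj hjk.symm hc.symm) _))
    refine (sup_eq_top_of_card (by rw [inf_comm]; exact c.ctx.im_inf_fx hp hj) ?_).symm
    rw [c.hq j hj, c.card_fx hj]
  have h1 := card_sup_mul_card_inf (fx V j) (fx V k)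
  rw [hsup, AddSubgroup.card_top] at h1
  refine Nat.eq_of_mul_eq_mul_left (Nat.card_pos (α := V)) ?_
  calc Nat.card V * (Nat.card ↥(fx V j ⊓ fx V k) * q * q)
      = Nat.card V * Nat.card ↥(fx V j ⊓ fx V k) * (q * q) := by ring
    _ = (Nat.card (fx V j) * q) * (Nat.card (fx V k) * q) := by rw [h1]; ring
    _ = Nat.card V * Nat.card V := by rw [c.card_fx hj, c.card_fx hk]

/-- Granularity. -/
lemma card_inf_nondeg
    (hgen : ∀ j k : H, Refl V j → Refl V k → fx V j ≠ fx V k →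
      Nat.card ↥(fx V j ⊓ fx V k) * q * q = Nat.card V)
    {X : AddSubgroup V} (hX : Nondeg H X) {k : H} (hk : Refl V k) (hXk : ¬ X ≤ fx V k) :
    Nat.card ↥(fx V k ⊓ X) * q * q * q = Nat.card V := by
  have hne : ∀ r : H, X ≤ fx V r → fx V k ≠ fx V r := fun r h e => hXk (e ▸ h)
  obtain ⟨a, b, hab, hXe⟩ := hX
  have hX : Nondeg H X := ⟨a, b, hab, hXe⟩
  have hXa : X ≤ fx V a := hXe ▸ inf_le_left
  set M := Nat.card ↥(fx V k ⊓ fx V a) with hM
  set F := (fun Φ => fx V k ⊓ Φ) '' lines H X with hF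
  have hMeq : M * q * q = Nat.card V := hgen k a hk hab.left (hne a hXa)
  have hFn : F.ncard = q + 1 := by
    rw [hF, Set.InjOn.ncard_image, c.ncard_lines hX]
    rintro Φ ⟨r, hr, hXr, rfl⟩ Ψ ⟨s, hs, hXs, rfl⟩ e
    simp only at e
    by_contra hrs
    have h1 : fx V k ⊓ fx V r ≤ X := by
      rw [← c.inf_line hX hr hs hXr hXs hrs]
      exact le_inf inf_le_right (e ▸ inf_le_right)
    exact hXk ((c.eq_of_le_nondeg (c.card_nondeg hX) h1 (hgen k r hk hr (hne r hXr))) ▸ inf_le_left)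
  have hcount := card_cover F (fx V k) (fx V k ⊓ X) M
    (by rintro _ ⟨Φ, ⟨r, hr, h, rfl⟩, rfl⟩; exact inf_le_inf_left _ h)
    (by rintro _ ⟨Φ, -, rfl⟩; exact inf_le_left) inf_le_left
    (by
      rintro _ ⟨Φ, ⟨r, hr, h, rfl⟩, rfl⟩ _ ⟨Ψ, ⟨s, hs, h', rfl⟩, rfl⟩ hrs
      refine le_inf (inf_le_left.trans inf_le_left) ?_
      rw [← c.inf_line hX hr hs h h' (fun e => hrs (by simp only [e]))]
      exact inf_le_inf inf_le_right inf_le_right)
    (fun v hv => by
      obtain ⟨r, hr, h, hvr⟩ := c.cover hX v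
      exact Or.inr ⟨_, ⟨_, ⟨r, hr, h, rfl⟩, rfl⟩, hv, hvr⟩)
    (by
      rintro _ ⟨Φ, ⟨r, hr, h, rfl⟩, rfl⟩
      exact Nat.eq_of_mul_eq_mul_right c.q_pos (Nat.eq_of_mul_eq_mul_right c.q_pos
        ((hgen k r hk hr (hne r h)).trans hMeq.symm)))
  have hk1 : Nat.card (fx V k) = M * q :=
    Nat.eq_of_mul_eq_mul_right c.q_pos ((c.card_fx hk).trans hMeq.symm)
  rw [hk1, hFn] at hcount
  have h3 : Nat.card ↥(fx V k ⊓ X) * q = M := by linarith
  rw [h3, hMeq]

end NCtx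

end Cfsg.Agent.BinaryAffine
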