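import Cfsg.Agent.Lib.BinaryAffine.Basic

/-!
# Binary affine groups: reflections (S5753)
-/

set_option autoImplicit false

namespace Cfsg.Agent.BinaryAffine

variable {H : Type*} [Group H] {V : Type} [AddCommGroup V] [DistribMulAction H V]

variable (V) in
/-- A nonidentity element whose fixed space is maximal. -/
structure Refl (g : H) : Prop where
  ne_one : g ≠ 1
  maxl : ∀ k : H, k ≠ 1 → fx V g ≤ fx V k → fx V k ≤ fx V g

variable (V) in
/-- Noncommuting pair of reflections. -/
structure NC (g k : H) : Prop where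
  left : Refl V g
  right : Refl V k
  ncomm : g * k ≠ k * g

lemma NC.symm {g k : H} (h : NC V g k) : NC V k g := ⟨h.right, h.left, Ne.symm h.ncomm⟩

lemma NC.ne {g k : H} (h : NC V g k) : g ≠ k := fun e => h.ncomm (by rw [e])

lemma eq_one_of_fx_eq_top [FaithfulSMul H V] {g : H} (h : fx V g = ⊤) : g = 1 :=
  FaithfulSMul.eq_of_smul_eq_smul fun v : V => by
    rw [one_smul]; exact mem_fx.1 (h ▸ AddSubgroup.mem_top v)

lemma fx_one : fx V (1 : H) = ⊤ := eq_top_iff.2 fun v _ => mem_fx.2 (one_smul _ _)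

lemma fx_inv (g : H) : fx V g⁻¹ = fx V g := by
  ext v; rw [mem_fx, mem_fx, inv_smul_eq_iff, eq_comm]

lemma exists_refl_above [Finite H] [Finite V] {l : H} (hl : l ≠ 1) :
    ∃ k : H, Refl V k ∧ fx V l ≤ fx V k := by
  obtain ⟨k, ⟨hk1, hk2⟩, hmax⟩ := Set.exists_max_image {k : H | k ≠ 1 ∧ fx V l ≤ fx V k}
    (fun k => Nat.card (fx V k)) (Set.toFinite _) ⟨l, hl, le_rfl⟩
  refine ⟨k, ⟨hk1, fun m hm hle => ?_⟩, hk2⟩
  by_contra hne
  exact (card_fx_lt hle hne).not_ge (hmax m ⟨hm, hk2.trans hle⟩)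

lemma Refl.conj {g : H} (hg : Refl V g) (h : H) : Refl V (h * g * h⁻¹) := by
  refine ⟨fun e => hg.ne_one (conj_eq_one_iff.1 e), fun k hk hle v hv => ?_⟩
  rw [fx_conj]
  refine hg.maxl (h⁻¹ * k * h) (fun e => hk ?_) (fun w hw => ?_) ?_
  · have e' : k = h * (h⁻¹ * k * h) * h⁻¹ := by group
    rw [e', e]; group
  · have := hle ((fx_conj h g (h • w)).2 (by rwa [inv_smul_smul]))
    rw [mem_fx] at this ⊢
    rw [mul_smul, mul_smul, this, inv_smul_smul]
  · rw [mem_fx] at hv ⊢
    rw [mul_smul, mul_smul, smul_inv_smul, hv]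

lemma NC.conj {g k : H} (hn : NC V g k) (h : H) : NC V (h * g * h⁻¹) (h * k * h⁻¹) :=
  ⟨hn.left.conj h, hn.right.conj h, fun e => hn.ncomm (by
    have e' : h * (g * k) * h⁻¹ = h * (k * g) * h⁻¹ := by
      simpa [mul_assoc] using e
    exact mul_left_cancel (mul_right_cancel e'))⟩

lemma Refl.exists_im_ne [FaithfulSMul H V] {g : H} (hg : Refl V g) : ∃ x : V, g • x - x ≠ 0 := by
  by_contra! h
  exact hg.ne_one (eq_one_of_fx_eq_top (eq_top_iff.2 fun v _ => mem_fx.2 (sub_eq_zero.1 (h v))))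

lemma im_ne_bot [FaithfulSMul H V] {g : H} (hg : Refl V g) : im V g ≠ ⊥ := fun e => by
  obtain ⟨x, hx⟩ := hg.exists_im_ne (V := V)
  exact hx ((AddSubgroup.eq_bot_iff_forall _).1 e _ (sub_mem_im g x))

namespace Ctx

variable [Finite H] [Finite V] [FaithfulSMul H V] {p : ℕ} (c : Ctx H V p)
include c

omit [FaithfulSMul H V] in
/-- R1: images of two distinct reflections meet trivially. -/
lemma im_inter_eq_zero {g k : H} (hg : Refl V g) (hk : Refl V k) {d : V}
    (h1 : d ∈ im V g) (h2 : d ∈ im V k) : d = 0 ∨ g = k := by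
  rw [or_iff_not_imp_left]
  intro hd
  obtain ⟨G, hG⟩ := c.exists_shift d
  have key : ∀ f : H, Refl V f → d ∈ im V f → f = G := by
    intro f hf hdf
    obtain ⟨x, hx⟩ := mem_im.1 hdf
    have hfx : f • x = x + d := by rw [← hx]; abel
    have hGx : G • x = x + d := hG x f hfx
    have hle : fx V f ≤ fx V G := by
      intro u hu
      rw [mem_fx] at hu ⊢
      have := hG (x + u) f (by rw [smul_add, hfx, hu]; abel)
      rw [smul_add, hGx] at this
      exact add_left_cancel (this.trans (add_right_comm x u d))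
    have hG1 : G ≠ 1 := fun e => hd (by rw [e, one_smul, left_eq_add] at hGx; exact hGx)
    have hle2 : fx V G ≤ fx V f := hf.maxl G hG1 hle
    by_contra hne
    have hlt : fx V f ≤ fx V (f⁻¹ * G) := fun u hu => by
      rw [mem_fx, mul_smul, mem_fx.1 (hle hu), inv_smul_eq_iff, mem_fx.1 hu]
    have hxin : x ∈ fx V (f⁻¹ * G) := by
      rw [mem_fx, mul_smul, hGx, inv_smul_eq_iff, hfx]
    have := hf.maxl _ (fun e => hne (inv_mul_eq_one.1 e)) hlt hxin
    rw [mem_fx, hfx, add_eq_left] at this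
    exact hd this
  rw [key g hg h1, key k hk h2]

/-- R2: reflections are involutions. -/
lemma sq {g : H} (hg : Refl V g) : g * g = 1 := by
  by_contra hne
  have hle : fx V g ≤ fx V (g * g) := fun u hu => by
    rw [mem_fx, mul_smul, mem_fx.1 hu, mem_fx.1 hu]
  have hle2 := hg.maxl _ hne hle
  have hr : Refl V (g * g) := ⟨hne, fun k hk h => (hg.maxl k hk (hle.trans h)).trans hle⟩
  obtain ⟨x, hx⟩ := hr.exists_im_ne (V := V)
  have hmem : (g * g) • x - x ∈ im V g := by
    rw [mul_smul, ← sub_add_sub_cancel _ (g • x)]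
    exact AddSubgroup.add_mem _ (sub_mem_im g _) (sub_mem_im g _)
  rcases c.im_inter_eq_zero hr hg (sub_mem_im _ x) hmem with h | h
  · exact hx h
  · exact hg.ne_one (mul_eq_left.1 h)

lemma inv_eq {g : H} (hg : Refl V g) : g⁻¹ = g := inv_eq_of_mul_eq_one_right (c.sq hg)

lemma smul_smul_self {g : H} (hg : Refl V g) (v : V) : g • g • v = v := by
  rw [← mul_smul, c.sq hg, one_smul]

lemma smul_im {g : H} (hg : Refl V g) {i : V} (hi : i ∈ im V g) : g • i = -i := by
  obtain ⟨x, rfl⟩ := mem_im.1 hi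
  rw [smul_sub, c.smul_smul_self hg]; abel

lemma im_le_fx_of_two (hp : p = 2) {g : H} (hg : Refl V g) : im V g ≤ fx V g := fun i hi => by
  rw [mem_fx, c.smul_im hg hi, c.neg_eq_self hp]

lemma im_inf_fx (hp : p ≠ 2) {g : H} (hg : Refl V g) : im V g ⊓ fx V g = ⊥ := by
  rw [AddSubgroup.eq_bot_iff_forall]
  rintro v ⟨h1, h2⟩
  by_contra hv
  have := c.smul_im hg h1
  rw [mem_fx.1 h2] at this
  exact c.two_nsmul_ne_zero hp hv (eq_neg_iff_add_eq_zero.1 this)

/-- R3: commuting distinct reflections fix each other's image. -/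
lemma im_le_fx {g k : H} (hg : Refl V g) (hk : Refl V k) (hne : g ≠ k)
    (hc : g * k = k * g) : im V k ≤ fx V g := by
  intro i hi
  rw [mem_fx, ← sub_eq_zero]
  have h2 : g • i ∈ im V k := by
    obtain ⟨x, rfl⟩ := mem_im.1 hi
    rw [smul_sub, ← mul_smul, hc, mul_smul]
    exact sub_mem_im k _
  rcases c.im_inter_eq_zero hg hk (sub_mem_im g i) (AddSubgroup.sub_mem _ h2 hi) with h | h
  · exact h
  · exact absurd h hne

/-- R3: a nonzero fixed vector in the image forces commutation. -/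
lemma comm_of_mem {g k : H} (hg : Refl V g) (hk : Refl V k) {d : V} (hd : d ≠ 0)
    (h1 : d ∈ im V k) (h2 : d ∈ fx V g) : g * k = k * g := by
  have h3 : d ∈ im V (g * k * g⁻¹) := by
    rw [im_conj, inv_smul_eq_iff.2 (mem_fx.1 h2).symm]; exact h1
  rcases c.im_inter_eq_zero (hk.conj g) hk h3 h1 with h | h
  · exact absurd h hd
  · exact mul_inv_eq_iff_eq_mul.1 h

lemma nc_inf {g k : H} (h : NC V g k) : fx V g ⊓ im V k = ⊥ := by
  rw [AddSubgroup.eq_bot_iff_forall]
  rintro v ⟨h1, h2⟩
  by_contra hv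
  exact h.ncomm (c.comm_of_mem h.left h.right hv h2 h1)

lemma nc_card_im_le {g k : H} (h : NC V g k) : Nat.card (im V k) ≤ Nat.card (im V g) := by
  have h1 := card_mul_le_of_disjoint (c.nc_inf h)
  rw [← card_fx_mul_im (V := V) g] at h1
  exact Nat.le_of_mul_le_mul_left h1 Nat.card_pos

lemma nc_card_im {g k : H} (h : NC V g k) : Nat.card (im V g) = Nat.card (im V k) :=
  le_antisymm (c.nc_card_im_le h.symm) (c.nc_card_im_le h)

lemma nc_sup {g k : H} (h : NC V g k) : fx V g ⊔ im V k = ⊤ := by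
  refine sup_eq_top_of_card (c.nc_inf h) ?_
  rw [← card_fx_mul_im (V := V) g, c.nc_card_im h]

/-- Reflections with the same fixed space commute. -/
lemma comm_of_fx_eq {g k : H} (hg : Refl V g) (hk : Refl V k) (he : fx V g = fx V k) :
    g * k = k * g := by
  by_cases hgk : g * k = 1
  · rw [hgk, show k = g⁻¹ from (inv_eq_of_mul_eq_one_right hgk).symm, inv_mul_cancel]
  have hle : fx V g ≤ fx V (g * k) := fun u hu => by
    rw [mem_fx, mul_smul, mem_fx.1 (show u ∈ fx V k from he ▸ hu), mem_fx.1 hu]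
  have hr : Refl V (g * k) := ⟨hgk, fun m hm h => (hg.maxl m hm (hle.trans h)).trans hle⟩
  have := c.inv_eq hr
  rw [mul_inv_rev, c.inv_eq hg, c.inv_eq hk] at this
  exact this.symm

lemma eq_of_fx_eq (hp : p ≠ 2) {g k : H} (hg : Refl V g) (hk : Refl V k)
    (he : fx V g = fx V k) : g = k := by
  by_contra hne
  have h1 := c.im_le_fx hg hk hne (c.comm_of_fx_eq hg hk he)
  rw [he] at h1
  exact im_ne_bot hk (eq_bot_iff.2 (c.im_inf_fx hp hk ▸ le_inf le_rfl h1))

omit [Finite H] [Finite V] [FaithfulSMul H V] in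
lemma eq_top_of_invariant {W : AddSubgroup V} (hW : ∀ h : H, ∀ w ∈ W, h • w ∈ W) {v : V}
    (hv : v ∈ W) (hv0 : v ≠ 0) : W = ⊤ :=
  (c.irred W hW).resolve_left fun e => hv0 (by rw [e] at hv; exact hv)

/-- A vector fixed by all reflections is zero (if there is a reflection). -/
lemma eq_zero_of_all_fixed {g : H} (hg : Refl V g) {v : V}
    (hv : ∀ r : H, Refl V r → r • v = v) : v = 0 := by
  by_contra hv0
  let W : AddSubgroup V := ⨅ r : {r : H // Refl V r}, fx V (r : H)
  have hW : ∀ h : H, ∀ w ∈ W, h • w ∈ W := by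
    intro h w hw
    simp only [W, AddSubgroup.mem_iInf] at hw ⊢
    rintro ⟨r, hr⟩
    have := hw ⟨_, hr.conj h⁻¹⟩
    rw [fx_conj, inv_inv] at this
    exact this
  have hvW : v ∈ W := AddSubgroup.mem_iInf.2 fun r => mem_fx.2 (hv r r.2)
  have hle : W ≤ fx V g := iInf_le (fun r : {r : H // Refl V r} => fx V (r : H)) ⟨g, hg⟩
  rw [c.eq_top_of_invariant hW hvW hv0, top_le_iff] at hle
  exact hg.ne_one (eq_one_of_fx_eq_top hle)

/-- The images of all reflections generate `V`. -/
lemma eq_one_of_im_le {k g : H} (hg : Refl V g)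
    (hk : ∀ r : H, Refl V r → im V r ≤ fx V k) : k = 1 := by
  let W : AddSubgroup V := ⨆ r : {r : H // Refl V r}, im V (r : H)
  have hW : ∀ h : H, ∀ w ∈ W, h • w ∈ W := by
    intro h w hw
    induction hw using AddSubgroup.iSup_induction' with
    | hp r x hx => exact AddSubgroup.mem_iSup_of_mem (⟨_, r.2.conj h⟩ : {r : H // Refl V r})
                    (by rw [im_conj, inv_smul_smul]; exact hx)
    | h1 => rw [smul_zero]; exact W.zero_mem
    | hadd x y _ _ hx hy => rw [smul_add]; exact W.add_mem hx hy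
  obtain ⟨x, hx⟩ := hg.exists_im_ne (V := V)
  have hxW : g • x - x ∈ W :=
    AddSubgroup.mem_iSup_of_mem (⟨g, hg⟩ : {r : H // Refl V r}) (sub_mem_im g x)
  have hle : W ≤ fx V k := iSup_le fun r => hk r r.2
  rw [c.eq_top_of_invariant hW hxW hx, top_le_iff] at hle
  exact eq_one_of_fx_eq_top hle

omit [Finite H] [Finite V] [FaithfulSMul H V] in
lemma prime_card_of_trivial [Nontrivial V] (h : ∀ W : AddSubgroup V, ∀ x : H, ∀ w ∈ W, x • w ∈ W) :
    (Nat.card V).Prime := by
  obtain ⟨v, hv⟩ := exists_ne (0 : V)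
  have htop := c.eq_top_of_invariant (h _) (AddSubgroup.mem_zmultiples v) hv
  have : addOrderOf v = p := by
    have : Fact p.Prime := ⟨c.prime⟩
    exact addOrderOf_eq_prime (c.char v) hv
  rw [← AddSubgroup.card_top, ← htop, Nat.card_zmultiples, this]
  exact c.prime

/-- If all reflections commute, then `|V|` is prime and `|H| ≤ 2`. -/
lemma of_all_commute [Nontrivial V]
    (hall : ∀ g k : H, Refl V g → Refl V k → g * k = k * g) :
    (Nat.card V).Prime ∧ Nat.card H ≤ 2 := by
  by_cases hex : ∃ g : H, Refl V g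
  swap
  · have h1 : ∀ h : H, h = 1 := fun h => by
      by_contra hne
      obtain ⟨k, hk, -⟩ := exists_refl_above (V := V) hne
      exact hex ⟨k, hk⟩
    have : Subsingleton H := ⟨fun a b => by rw [h1 a, h1 b]⟩
    refine ⟨c.prime_card_of_trivial fun W x w hw => by rw [h1 x, one_smul]; exact hw, ?_⟩
    have := Finite.card_le_one_iff_subsingleton.2 this
    omega
  obtain ⟨g₀, hg₀⟩ := hex
  rcases eq_or_ne p 2 with hp | hp
  · exfalso
    refine hg₀.ne_one (c.eq_one_of_im_le hg₀ fun r hr => ?_)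
    rcases eq_or_ne g₀ r with rfl | hne
    · exact c.im_le_fx_of_two hp hg₀
    · exact c.im_le_fx hg₀ hr hne (hall _ _ hg₀ hr)
  classical
  have : Fintype H := Fintype.ofFinite H
  let i : H → V := fun r => if h : Refl V r then
    r • (h.exists_im_ne (V := V)).choose - (h.exists_im_ne (V := V)).choose else 0
  have hi : ∀ r, Refl V r → i r ∈ im V r ∧ i r ≠ 0 := fun r hr => by
    simp only [i, dif_pos hr]
    exact ⟨sub_mem_im _ _, (hr.exists_im_ne (V := V)).choose_spec⟩
  let b : V := ∑ r : H, i r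
  have hb : ∀ l : H, l • b = b → l = 1 := by
    intro l hl
    by_contra hne
    obtain ⟨k, hk, hkl⟩ := exists_refl_above (V := V) hne
    have hkb : k • b - b = 0 := sub_eq_zero.2 (mem_fx.1 (hkl (mem_fx.2 hl)))
    have : k • b - b = k • i k - i k := by
      simp only [b, Finset.smul_sum, ← Finset.sum_sub_distrib]
      refine Finset.sum_eq_single_of_mem k (Finset.mem_univ _) fun r _ hr => ?_
      by_cases hR : Refl V r
      · rw [sub_eq_zero]
        exact mem_fx.1 (c.im_le_fx hk hR (Ne.symm hr) (hall _ _ hk hR) (hi r hR).1)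
      · simp [i, dif_neg hR]
    rw [this, c.smul_im hk (hi k hk).1, sub_eq_zero] at hkb
    exact c.two_nsmul_ne_zero hp (hi k hk).2 (neg_eq_iff_add_eq_zero.1 hkb)
  have hsq : ∀ h : H, h * h = 1 := fun h =>
    c.bin.sq_eq_one (fun l _ => hb l) (Subgroup.mem_top h)
  have hinv : ∀ h : H, h⁻¹ = h := fun h => inv_eq_of_mul_eq_one_right (hsq h)
  have hcomm : ∀ x y : H, x * y = y * x := fun x y => by
    rw [← hinv (x * y), mul_inv_rev, hinv, hinv]
  -- every reflection is `-1`
  have hneg : ∀ r : H, Refl V r → ∀ v : V, r • v = -v := by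
    intro r hr v
    obtain ⟨x, hx⟩ := hr.exists_im_ne (V := V)
    have htop : im V r = ⊤ := c.eq_top_of_invariant (fun h w hw => by
      obtain ⟨y, rfl⟩ := mem_im.1 hw
      rw [smul_sub, ← mul_smul, hcomm, mul_smul]
      exact sub_mem_im r _) (sub_mem_im r x) hx
    exact c.smul_im hr (htop ▸ AddSubgroup.mem_top v)
  have hH : ∀ l : H, l = 1 ∨ l = g₀ := by
    intro l
    refine or_iff_not_imp_left.2 fun hl => FaithfulSMul.eq_of_smul_eq_smul fun v : V => ?_
    rw [hneg g₀ hg₀]
    obtain ⟨k, hk, hkl⟩ := exists_refl_above (V := V) hl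
    have h0 : l • (l • v + v) = l • v + v := by
      rw [smul_add, ← mul_smul, hsq, one_smul, add_comm]
    have h1 : k • (l • v + v) = l • v + v := mem_fx.1 (hkl (mem_fx.2 h0))
    rw [hneg k hk] at h1
    by_contra hne
    exact c.two_nsmul_ne_zero hp (fun e => hne (eq_neg_of_add_eq_zero_left e))
      (neg_eq_iff_add_eq_zero.1 h1)
  refine ⟨c.prime_card_of_trivial fun W x w hw => ?_, ?_⟩
  · rcases hH x with rfl | rfl
    · rwa [one_smul]
    · rw [hneg _ hg₀]; exact W.neg_mem hw
  · have hsub : (Set.univ : Set H) ⊆ {1, g₀} := fun l _ => hH l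
    have := Set.ncard_le_ncard hsub (Set.toFinite _)
    rw [Set.ncard_univ] at this
    exact this.trans ((Set.ncard_insert_le _ _).trans (by simp))

/-- Connectivity of the noncommuting graph on reflections. -/
lemma connected {a b : H} (hab : NC V a b) {r : H} (hr : Refl V r) :
    Relation.ReflTransGen (NC V) a r := by
  let C : H → Prop := Relation.ReflTransGen (NC V) a
  have hsymm : ∀ {x y : H}, Relation.ReflTransGen (NC V) x y →
      Relation.ReflTransGen (NC V) y x := fun h => by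
    induction h with
    | refl => exact .refl
    | tail _ h2 ih => exact (Relation.ReflTransGen.single h2.symm).trans ih
  have hconj : ∀ (h : H) {x y : H}, Relation.ReflTransGen (NC V) x y →
      Relation.ReflTransGen (NC V) (h * x * h⁻¹) (h * y * h⁻¹) := fun h _ _ hxy => by
    induction hxy with
    | refl => exact .refl
    | tail _ h2 ih => exact ih.tail (h2.conj h)
  -- the component of `a` is invariant
  have hC : ∀ h : H, C (h * a * h⁻¹) := by
    intro h
    by_contra hnot
    set g' := h * a * h⁻¹ with hg'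
    set b' := h * b * h⁻¹ with hb'
    have hg : Refl V a := hab.left
    have hg'r : Refl V g' := hg.conj h
    have hne : a ≠ g' := fun e => hnot (e ▸ .refl)
    have hab' : NC V g' b' := hab.conj h
    have hcb : C b := .single hab
    have cross : ∀ x y : H, Refl V x → Refl V y → C x →
        Relation.ReflTransGen (NC V) g' y → x ≠ y ∧ x * y = y * x := by
      intro x y hx hy h1 h2
      refine ⟨fun e => hnot ((e ▸ h1).trans (hsymm h2)), ?_⟩
      by_contra hxy
      exact hnot ((h1.tail ⟨hx, hy, hxy⟩).trans (hsymm h2))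
    obtain ⟨hne1, hc1⟩ := cross a g' hg hg'r .refl .refl
    obtain ⟨hne2, hc2⟩ := cross a b' hg hab'.right .refl (.single hab')
    obtain ⟨hne3, hc3⟩ := cross b g' hab.right hg'r hcb .refl
    have i1 : im V g' ≤ fx V a := c.im_le_fx hg hg'r hne1 hc1
    have i2 : im V b' ≤ fx V a := c.im_le_fx hg hab'.right hne2 hc2
    have i3 : im V b ≤ fx V g' := c.im_le_fx hg'r hab.right hne3.symm hc3.symm
    have i4 : im V a ≤ fx V g' := c.im_le_fx hg'r hg hne1.symm hc1.symm
    have hsup : ∀ v : V, ∃ x ∈ fx V a, ∃ y ∈ fx V g', x + y = v := fun v => by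
      obtain ⟨x, hx, y, hy, e⟩ := AddSubgroup.mem_sup.1 (c.nc_sup hab ▸ AddSubgroup.mem_top v)
      exact ⟨x, hx, y, i3 hy, e⟩
    obtain ⟨x0, hu0⟩ := hg.exists_im_ne (V := V)
    set u := a • x0 - x0 with hu
    have huim : u ∈ im V a := sub_mem_im a x0
    have hhu : h • u ∈ im V g' := by rw [hg', im_conj, inv_smul_smul]; exact huim
    -- `x` with prescribed differences
    obtain ⟨x1, hx1⟩ := mem_im.1 (AddSubgroup.neg_mem _ huim)
    obtain ⟨x2, hx2⟩ := mem_im.1 hhu
    obtain ⟨p1, hp1, q1, hq1, e1⟩ := hsup x1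
    obtain ⟨p2, hp2, q2, hq2, e2⟩ := hsup x2
    rw [mem_fx] at hp1 hq1 hp2 hq2
    set x := q1 + p2 with hx
    have hax : a • x = x - u := by
      have : a • q1 - q1 = -u := by rw [← hx1, ← e1, smul_add, hp1]; abel
      rw [hx, smul_add, hp2, sub_eq_iff_eq_add.1 this]; abel
    have hgx : g' • x = x + h • u := by
      have : g' • p2 - p2 = h • u := by rw [← hx2, ← e2, smul_add, hq2]; abel
      rw [hx, smul_add, hq1, sub_eq_iff_eq_add.1 this]; abel
    set d := h • u - u with hd
    have hd0 : d ≠ 0 := fun e => by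
      rcases c.im_inter_eq_zero hg hg'r huim ((sub_eq_zero.1 e) ▸ hhu) with h' | h'
      · exact hu0 h'
      · exact hne1 h'
    obtain ⟨G, hG⟩ := c.exists_shift d
    have hGu : G • u = u + d := hG u h (by rw [hd]; abel)
    have hagx : (a * g') • x = x + d := by
      rw [mul_smul, hgx, smul_add, hax, mem_fx.1 (i1 hhu), hd]; abel
    have hGx : G • x = x + d := hG x _ hagx
    have hG1 : G ≠ 1 := fun e => hd0 (by rw [e, one_smul, left_eq_add] at hGu; exact hGu)
    obtain ⟨k, hk, hGk⟩ := exists_refl_above (V := V) hG1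
    have hk1 : x - u ∈ fx V k := hGk (by rw [mem_fx, smul_sub, hGx, hGu]; abel)
    have hk2 : fx V a ⊓ fx V g' ≤ fx V k := by
      rintro w ⟨hw1, hw2⟩
      refine hGk (mem_fx.2 ?_)
      have := hG (x + w) (a * g') (by
        rw [smul_add, hagx, mul_smul, mem_fx.1 hw2, mem_fx.1 hw1]; abel)
      rw [smul_add, hGx] at this
      exact add_left_cancel (this.trans (add_right_comm x w d))
    have hA : a • (x - u) - (x - u) ≠ 0 := by
      rw [smul_sub, hax, c.smul_im hg huim]
      intro e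
      apply hu0
      rw [← e]; abel
    have hB : g' • (x - u) - (x - u) ≠ 0 := by
      rw [smul_sub, hgx, mem_fx.1 (i4 huim)]
      intro e
      apply hu0
      have : h • u = h • (0 : V) := by rw [smul_zero, ← e]; abel
      exact smul_left_cancel h this
    have split1 : ∀ v ∈ fx V a, ∃ z ∈ fx V a ⊓ fx V g', ∃ i ∈ im V b', z + i = v := fun v hv => by
      obtain ⟨z, hz, i, hi, e⟩ := AddSubgroup.mem_sup.1 (c.nc_sup hab' ▸ AddSubgroup.mem_top v)
      refine ⟨z, ⟨?_, hz⟩, i, hi, e⟩
      have : z = v - i := by rw [← e]; abel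
      rw [this]; exact AddSubgroup.sub_mem _ hv (i2 hi)
    by_cases hkC : C k
    · obtain ⟨hn, hcm⟩ := cross k b' hk hab'.right hkC (.single hab')
      have hle : fx V a ≤ fx V k := fun v hv => by
        obtain ⟨z, hz, i, hi, rfl⟩ := split1 v hv
        exact AddSubgroup.add_mem _ (hk2 hz) (c.im_le_fx hk hab'.right hn hcm hi)
      exact hA (sub_eq_zero.2 (mem_fx.1 (hg.maxl k hk.ne_one hle hk1)))
    · have hkb : k ≠ b ∧ k * b = b * k := by
        refine ⟨fun e => hkC (e ▸ hcb), ?_⟩
        by_contra hn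
        exact hkC (hcb.tail ⟨hab.right, hk, Ne.symm hn⟩)
      have hib := c.im_le_fx hk hab.right hkb.1 hkb.2
      by_cases hkC' : Relation.ReflTransGen (NC V) g' k
      · have hle : fx V g' ≤ fx V k := fun v hv => by
          obtain ⟨z, hz, i, hi, rfl⟩ :=
            AddSubgroup.mem_sup.1 (c.nc_sup hab ▸ AddSubgroup.mem_top v)
          refine AddSubgroup.add_mem _ (hk2 ⟨hz, ?_⟩) (hib hi)
          have := AddSubgroup.sub_mem _ hv (i3 hi)
          rwa [add_sub_cancel_right] at this
        exact hB (sub_eq_zero.2 (mem_fx.1 (hg'r.maxl k hk.ne_one hle hk1)))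
      · have hkb' : k ≠ b' ∧ k * b' = b' * k := by
          refine ⟨fun e => hkC' (e ▸ .single hab'), ?_⟩
          by_contra hn
          exact hkC' ((Relation.ReflTransGen.single hab').tail ⟨hab'.right, hk, Ne.symm hn⟩)
        refine hk.ne_one (eq_one_of_fx_eq_top (V := V) (eq_top_iff.2 fun v _ => ?_))
        obtain ⟨z, hz, i, hi, rfl⟩ :=
          AddSubgroup.mem_sup.1 (c.nc_sup hab ▸ AddSubgroup.mem_top v)
        obtain ⟨z', hz', i', hi', rfl⟩ := split1 z hz
        exact AddSubgroup.add_mem _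
          (AddSubgroup.add_mem _ (hk2 hz') (c.im_le_fx hk hab'.right hkb'.1 hkb'.2 hi')) (hib hi)
  by_contra hrC
  refine hr.ne_one ?_
  let W : AddSubgroup V := ⨆ s : {s : H // C s}, im V (s : H)
  have hW : ∀ h : H, ∀ w ∈ W, h • w ∈ W := by
    intro h w hw
    induction hw using AddSubgroup.iSup_induction' with
    | hp s x hx =>
      have hs : C (h * (s : H) * h⁻¹) := (hC h).trans (hconj h s.2)
      exact AddSubgroup.mem_iSup_of_mem (⟨_, hs⟩ : {s : H // C s})
        (by rw [im_conj, inv_smul_smul]; exact hx)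
    | h1 => rw [smul_zero]; exact W.zero_mem
    | hadd x y _ _ hx hy => rw [smul_add]; exact W.add_mem hx hy
  obtain ⟨x, hx⟩ := hab.left.exists_im_ne (V := V)
  have hxW : a • x - x ∈ W :=
    AddSubgroup.mem_iSup_of_mem (⟨a, .refl⟩ : {s : H // C s}) (sub_mem_im a x)
  refine eq_one_of_fx_eq_top (V := V) (eq_top_iff.2 ?_)
  rw [← c.eq_top_of_invariant hW hxW hx]
  refine iSup_le ?_
  rintro ⟨s, hs⟩
  have hsr : Refl V s := by
    rcases Relation.ReflTransGen.cases_tail hs with rfl | ⟨t, -, ht⟩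
    exacts [hab.left, ht.right]
  refine c.im_le_fx hr hsr (fun e => hrC (e ▸ hs)) ?_
  by_contra hn
  exact hrC (Relation.ReflTransGen.tail hs ⟨hsr, hr, Ne.symm hn⟩)

lemma induction_refl {a b : H} (hab : NC V a b) (P : H → Prop) (ha : P a)
    (hstep : ∀ x y : H, NC V x y → P x → P y) {r : H} (hr : Refl V r) : P r := by
  have := c.connected hab hr
  induction this with
  | refl => exact ha
  | tail h1 h2 ih => exact hstep _ _ h2 (ih h2.left)

lemma card_im_eq {a b : H} (hab : NC V a b) {r : H} (hr : Refl V r) :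
    Nat.card (im V r) = Nat.card (im V a) :=
  c.induction_refl hab (fun r => Nat.card (im V r) = Nat.card (im V a)) rfl
    (fun _ _ h e => (c.nc_card_im h).symm.trans e) hr

lemma exists_nc {a b : H} (hab : NC V a b) {r : H} (hr : Refl V r) : ∃ s : H, NC V r s := by
  rcases Relation.ReflTransGen.cases_tail (c.connected hab hr) with rfl | ⟨t, -, ht⟩
  exacts [⟨b, hab⟩, ⟨t, ht.symm⟩]

end Ctx

end Cfsg.Agent.BinaryAffine
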