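import Cfsg.Agent.Lib.BinaryAffine.Line

/-!
# Binary affine groups: characteristic two (S5753)
-/

set_option autoImplicit false

namespace Cfsg.Agent.BinaryAffine

variable {H : Type*} [Group H] {V : Type} [AddCommGroup V] [DistribMulAction H V]

lemma fx_conj_eq (h g : H) :
    fx V (h * g * h⁻¹) = (fx V g).map (DistribSMul.toAddMonoidHom V h) := by
  ext v
  rw [fx_conj, AddSubgroup.mem_map]
  constructor
  · intro hv; exact ⟨_, hv, smul_inv_smul h v⟩
  · rintro ⟨w, hw, rfl⟩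
    simpa using hw

lemma two_dvd_card_moved {α : Type*} [DecidableEq α] (s : Finset α) (f : α → α)
    (hmap : ∀ x ∈ s, f x ∈ s) (hinv : ∀ x ∈ s, f (f x) = x) :
    2 ∣ (s.filter fun x => f x ≠ x).card := by
  rw [← ZMod.natCast_eq_zero_iff]
  rw [Finset.card_eq_sum_ones, Nat.cast_sum]
  refine Finset.sum_involution (fun x _ => f x) (fun _ _ => by decide) (fun x hx _ => ?_) ?_ ?_
  · exact (Finset.mem_filter.1 hx).2
  · intro x hx
    rw [Finset.mem_filter] at hx ⊢
    exact ⟨hmap x hx.1, fun e => hx.2 (by rw [hinv x hx.1] at e; exact e.symm)⟩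
  · intro x hx
    exact hinv x (Finset.mem_filter.1 hx).1

namespace NCtx

variable [Finite H] [Finite V] [FaithfulSMul H V] {p q : ℕ} (c : NCtx H V p q)
include c

/-- On a line, a reflection fixes only its own fixed space. -/
lemma fx_eq_of_normalises (hp : p = 2) {X : AddSubgroup V} (hX : Nondeg H X) {g k : H}
    (hg : Refl V g) (hk : Refl V k) (hXg : X ≤ fx V g) (hXk : X ≤ fx V k)
    (h : fx V (g * k * g⁻¹) = fx V k) : fx V g = fx V k := by
  classical
  have : Fintype H := Fintype.ofFinite H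
  set S : Finset H := Finset.univ.filter fun s => fx V k ≤ fx V s with hS
  have hmap : ∀ s ∈ S, g * s * g⁻¹ ∈ S := by
    intro s hs
    simp only [hS, Finset.mem_filter, Finset.mem_univ, true_and] at hs ⊢
    rw [← h]
    intro v hv
    rw [fx_conj] at hv ⊢
    exact hs hv
  have hinv : ∀ s ∈ S, g * (g * s * g⁻¹) * g⁻¹ = s := fun s _ => by
    rw [c.ctx.inv_eq hg]
    simp [← mul_assoc, c.ctx.sq hg]
    rw [mul_assoc, c.ctx.sq hg, mul_one]
  have hmoved := two_dvd_card_moved S (fun s => g * s * g⁻¹) hmap hinv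
  have hSk : k ∈ S := by simp [hS]
  have heven : 2 ∣ S.card := by
    have : (S.filter fun x => k * x ≠ x) = S :=
      Finset.filter_true_of_mem fun x _ => fun e => hk.ne_one (mul_eq_right.1 e)
    rw [← this]
    refine two_dvd_card_moved S (fun s => k * s) (fun s hs => ?_)
      (fun s _ => by rw [← mul_assoc, c.ctx.sq hk, one_mul])
    simp only [hS, Finset.mem_filter, Finset.mem_univ, true_and] at hs ⊢
    intro v hv
    rw [mem_fx, mul_smul, mem_fx.1 (hs hv), mem_fx.1 hv]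
  obtain ⟨s, hs, hs1, hsg⟩ : ∃ s ∈ S, s ≠ 1 ∧ g * s * g⁻¹ = s := by
    by_contra! hcon
    have h1 : (S.filter fun x => g * x * g⁻¹ ≠ x) = S.erase 1 := by
      ext x
      simp only [Finset.mem_filter, Finset.mem_erase]
      refine ⟨fun ⟨h1, h2⟩ => ⟨fun e => h2 (by subst e; simp), h1⟩,
        fun ⟨h1, h2⟩ => ⟨h2, hcon x h2 h1⟩⟩
    have h1S : (1 : H) ∈ S := by simp [hS, fx_one]
    rw [h1, Finset.card_erase_of_mem h1S] at hmoved
    have := Finset.card_pos.2 ⟨_, h1S⟩
    omega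
  simp only [hS, Finset.mem_filter, Finset.mem_univ, true_and] at hs
  have hle : fx V s ≤ fx V k := hk.maxl s hs1 hs
  have hsr : Refl V s := ⟨hs1, fun m hm hsm => (hk.maxl m hm (hs.trans hsm)).trans hs⟩
  have hse : fx V s = fx V k := le_antisymm hle hs
  by_contra hne
  have hgs : g ≠ s := fun e => hne (by rw [e, hse])
  have hc : g * s = s * g := mul_inv_eq_iff_eq_mul.1 hsg
  have hXs : X ≤ fx V s := hse ▸ hXk
  have e1 := c.comm_line hX hg hsr hXg hXs hgs hc
  refine hne ((eq_of_le_of_card_le ?_ (le_of_eq ?_)).trans hse)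
  · rw [← e1]; exact sup_le (c.ctx.im_le_fx_of_two hp hsr) hXs
  · exact Nat.eq_of_mul_eq_mul_right c.q_pos ((c.card_fx hsr).trans (c.card_fx hg).symm)

/-- Noncommuting reflections have conjugate fixed spaces. -/
lemma exists_conj_of_nc (hp : p = 2) {a b : H} (hab : NC V a b) :
    ∃ h : H, fx V (h * a * h⁻¹) = fx V b := by
  classical
  set X := fx V a ⊓ fx V b with hX'
  have hX : Nondeg H X := ⟨a, b, hab, rfl⟩
  have : Finite (AddSubgroup V) := Finite.of_injective _ SetLike.coe_injective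
  have : Fintype (AddSubgroup V) := Fintype.ofFinite _
  set L := fixingSubgroup H (X : Set V) with hL
  set O : Finset (AddSubgroup V) :=
    Finset.univ.filter fun Φ => ∃ h ∈ L, fx V (h * a * h⁻¹) = Φ with hO
  have hOm : ∀ {Φ}, Φ ∈ O ↔ ∃ h ∈ L, fx V (h * a * h⁻¹) = Φ := by simp [hO]
  by_contra hcon
  have haL : a ∈ L := mem_fixing.2 inf_le_left
  have hbL : b ∈ L := mem_fixing.2 inf_le_right
  have key : ∀ g : H, g ∈ L → Refl V g →
      2 ∣ (O.filter fun Φ => Φ ≠ fx V g).card := by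
    intro g hgL hg
    have hfix : ∀ Φ ∈ O, Φ.map (DistribSMul.toAddMonoidHom V g) = Φ ↔ Φ = fx V g := by
      intro Φ hΦ
      obtain ⟨h, hhL, rfl⟩ := hOm.1 hΦ
      rw [← fx_conj_eq]
      constructor
      · intro e
        refine (c.fx_eq_of_normalises hp hX hg (hab.left.conj h) (mem_fixing.1 hgL) ?_ e).symm
        exact mem_fixing.1 (L.mul_mem (L.mul_mem hhL haL) (L.inv_mem hhL))
      · intro e
        rw [fx_conj_eq, e, ← fx_conj_eq, mul_inv_cancel_right]
    have hmap : ∀ Φ ∈ O, Φ.map (DistribSMul.toAddMonoidHom V g) ∈ O := by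
      intro Φ hΦ
      obtain ⟨h, hhL, rfl⟩ := hOm.1 hΦ
      refine hOm.2 ⟨g * h, L.mul_mem hgL hhL, ?_⟩
      rw [← fx_conj_eq, mul_inv_rev]
      simp [mul_assoc]
    have := two_dvd_card_moved O (fun Φ => Φ.map (DistribSMul.toAddMonoidHom V g)) hmap
      (fun Φ hΦ => by
        obtain ⟨h, hhL, rfl⟩ := hOm.1 hΦ
        rw [← fx_conj_eq, ← fx_conj_eq, c.ctx.inv_eq hg]
        simp [← mul_assoc, c.ctx.sq hg]
        rw [mul_assoc _ g g, c.ctx.sq hg, mul_one])
    rwa [Finset.filter_congr fun Φ hΦ => not_congr (hfix Φ hΦ)] at this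
  have ha := key a haL hab.left
  have hb := key b hbL hab.right
  rw [Finset.filter_ne', Finset.card_erase_of_mem (hOm.2 ⟨1, L.one_mem, by simp⟩)] at ha
  have hnb : fx V b ∉ O := fun hm => hcon <| by
    obtain ⟨h, -, e⟩ := hOm.1 hm
    exact ⟨h, e⟩
  rw [Finset.filter_ne', Finset.erase_eq_of_notMem hnb] at hb
  have := Finset.card_pos.2 ⟨_, hOm.2 ⟨1, L.one_mem, rfl⟩⟩
  omega

/-- All fixed spaces of reflections are conjugate. -/
lemma exists_conj (hp : p = 2) {j k : H} (hj : Refl V j) (hk : Refl V k) :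
    ∃ h : H, fx V (h * j * h⁻¹) = fx V k := by
  obtain ⟨a, b, hab⟩ := c.exists_nc
  have key : ∀ r : H, Refl V r → ∃ h : H, fx V (h * a * h⁻¹) = fx V r := fun r hr => by
    refine c.ctx.induction_refl hab (fun r => ∃ h : H, fx V (h * a * h⁻¹) = fx V r)
      ⟨1, by simp⟩ ?_ hr
    rintro x y hxy ⟨h, hh⟩
    obtain ⟨g, hg⟩ := c.exists_conj_of_nc hp hxy
    refine ⟨g * h, ?_⟩
    rw [← hg, fx_conj_eq g x, ← hh, ← fx_conj_eq, mul_inv_rev]
    simp [mul_assoc]
  obtain ⟨h1, e1⟩ := key j hj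
  obtain ⟨h2, e2⟩ := key k hk
  refine ⟨h2 * h1⁻¹, ?_⟩
  rw [← e2, fx_conj_eq, ← e1, ← fx_conj_eq]
  simp [mul_assoc]

/-- Commuting reflections with different fixed spaces spanning `V` do not exist. -/
lemma no_exact (hp : p = 2) {j k : H} (hj : Refl V j) (hk : Refl V k) (hc : j * k = k * j)
    (hne : fx V j ≠ fx V k) (hsup : fx V j ⊔ fx V k = ⊤) : False := by
  have hjk : j ≠ k := fun e => hne (by rw [e])
  obtain ⟨h, hh⟩ := c.exists_conj hp hj hk
  set k' := h * j * h⁻¹ with hk'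
  have hk'r : Refl V k' := hj.conj h
  have hjk' : j ≠ k' := fun e => hne (by rw [← hh, ← e])
  obtain ⟨x0, hv⟩ := hj.exists_im_ne (V := V)
  set v := j • x0 - x0 with hv'
  have hvim : v ∈ im V j := sub_mem_im j x0
  have hvk : v ∈ fx V k' := by
    rw [hh]; exact c.ctx.im_le_fx hk hj hjk.symm hc.symm hvim
  have hc' : j * k' = k' * j := (c.ctx.comm_of_mem hk'r hj hv hvim hvk).symm
  set w := h • v with hw
  have hwim : w ∈ im V k' := by rw [hk', im_conj, hw, inv_smul_smul]; exact hvim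
  obtain ⟨x1, hx1⟩ := mem_im.1 hvim
  obtain ⟨x2, hx2⟩ := mem_im.1 hwim
  obtain ⟨p1, hp1, q1, hq1, e1⟩ := AddSubgroup.mem_sup.1 (hsup ▸ AddSubgroup.mem_top x1)
  obtain ⟨p2, hp2, q2, hq2, e2⟩ := AddSubgroup.mem_sup.1 (hsup ▸ AddSubgroup.mem_top x2)
  rw [← hh] at hq1 hq2
  rw [mem_fx] at hp1 hq1 hp2 hq2
  set x := q1 + p2 with hx
  have hjx : j • x = x + v := by
    have : j • q1 - q1 = v := by rw [← hx1, ← e1, smul_add, hp1]; abel
    rw [hx, smul_add, hp2, sub_eq_iff_eq_add.1 this]; abel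
  have hkx : k' • x = x + w := by
    have : k' • p2 - p2 = w := by rw [← hx2, ← e2, smul_add, hq2]; abel
    rw [hx, smul_add, hq1, sub_eq_iff_eq_add.1 this]; abel
  set d := v + w with hd
  have hd0 : d ≠ 0 := fun e => by
    have hvw : v = w := by rw [eq_neg_of_add_eq_zero_left e, c.ctx.neg_eq_self hp]
    rcases c.ctx.im_inter_eq_zero hj hk'r hvim (hvw ▸ hwim) with h' | h'
    · exact hv h'
    · exact hjk' h'
  obtain ⟨G, hG⟩ := c.ctx.exists_shift d
  have hGv : G • v = v + d := hG v h (by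
    have h2 : v + v = 0 := by
      have := c.ctx.char v
      rwa [hp, two_nsmul] at this
    rw [hd, ← add_assoc, h2, zero_add])
  have hjkx : (j * k') • x = x + d := by
    rw [mul_smul, hkx, smul_add, hjx, mem_fx.1 (c.ctx.im_le_fx hj hk'r hjk' hc' hwim), hd]; abel
  have hGx : G • x = x + d := hG x _ hjkx
  have := hG (x + v) (j * k') (by
    rw [smul_add, hjkx, mul_smul, mem_fx.1 hvk, mem_fx.1 (c.ctx.im_le_fx_of_two hp hj hvim)]; abel)
  rw [smul_add, hGx, hGv] at this
  apply hd0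
  have h3 : x + v + d + d = x + v + d := (by abel : x + v + d + d = x + d + (v + d)).trans this
  exact add_eq_left.1 h3

/-- P2: commuting reflections have the same fixed space. -/
lemma fx_eq_of_comm (hp : p = 2) {j k : H} (hj : Refl V j) (hk : Refl V k)
    (hc : j * k = k * j) : fx V j = fx V k := by
  by_contra hne
  have hjk : j ≠ k := fun e => hne (by rw [e])
  obtain ⟨a, b, hab⟩ := c.exists_nc
  obtain ⟨m, hjm⟩ := c.ctx.exists_nc hab hj
  have hm := hjm.right
  have hmk : m ≠ k := fun e => hjm.ncomm (e ▸ hc)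
  have hij : im V j ≤ fx V k := c.ctx.im_le_fx hk hj hjk.symm hc.symm
  have hik : im V k ≤ fx V j := c.ctx.im_le_fx hj hk hjk hc
  by_cases hcm : k * m = m * k
  · refine c.no_exact hp hj hk hc hne (top_le_iff.1 ?_)
    rw [← c.ctx.nc_sup hjm]
    exact sup_le_sup_left (c.ctx.im_le_fx hk hm hmk.symm hcm) _
  have hkm : NC V k m := ⟨hk, hm, hcm⟩
  have hmj0 : ∀ z, z ∈ fx V m → z ∈ im V j → z = 0 := fun z h1 h2 =>
    (AddSubgroup.eq_bot_iff_forall _).1 (c.ctx.nc_inf hjm.symm) z ⟨h1, h2⟩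
  have hmk0 : ∀ z, z ∈ fx V m → z ∈ im V k → z = 0 := fun z h1 h2 =>
    (AddSubgroup.eq_bot_iff_forall _).1 (c.ctx.nc_inf hkm.symm) z ⟨h1, h2⟩
  set Y := fx V j ⊓ fx V k ⊓ fx V m with hY
  -- find `x0`
  obtain ⟨x0, hx0, hy0⟩ : ∃ x0, x0 ∉ fx V j ∧ (k • x0 - x0) - (j • x0 - x0) ∈ Y := by
    by_contra! hcon
    let K : AddSubgroup V := Y.comap (mv k - mv j)
    have hKmem : ∀ z, z ∈ K ↔ (k • z - z) - (j • z - z) ∈ Y := fun z => by simp [K]
    have hKle : K ≤ fx V j := fun z hz => by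
      by_contra hzj
      exact hcon z hzj ((hKmem z).1 hz)
    have hdec : ∀ z : V, ∃ t ∈ im V j, (k • z - z) - (j • z - z) - t ∈ Y := by
      intro z
      obtain ⟨y, hy, t, ht, e⟩ := AddSubgroup.mem_sup.1
        (c.ctx.nc_sup hjm.symm ▸ AddSubgroup.mem_top (k • z - z))
      refine ⟨t - (j • z - z), AddSubgroup.sub_mem _ ht (sub_mem_im j z), ?_⟩
      have he : k • z - z - (j • z - z) - (t - (j • z - z)) = y := by rw [← e]; abel
      have hy' : y = (k • z - z) - t := by rw [← e]; abel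
      rw [he]
      refine ⟨⟨?_, ?_⟩, hy⟩
      · rw [hy']; exact AddSubgroup.sub_mem _ (hik (sub_mem_im k z))
          (c.ctx.im_le_fx_of_two hp hj ht)
      · rw [hy']; exact AddSubgroup.sub_mem _ (c.ctx.im_le_fx_of_two hp hk (sub_mem_im k z))
          (hij ht)
    let D : V → im V j := fun z => ⟨(hdec z).choose, (hdec z).choose_spec.1⟩
    have hinj : Function.Injective (fun z : V ⧸ K => D z.out) := by
      intro z w e
      have h1 := (hdec z.out).choose_spec.2
      have h2 := (hdec w.out).choose_spec.2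
      have e' : (hdec z.out).choose = (hdec w.out).choose := congrArg Subtype.val e
      rw [← e'] at h2
      have h3 := AddSubgroup.sub_mem _ h1 h2
      rw [← QuotientAddGroup.out_eq' z, ← QuotientAddGroup.out_eq' w, QuotientAddGroup.eq_iff_sub_mem,
        hKmem]
      convert h3 using 1
      simp only [smul_sub]
      abel
    have h1 := Nat.card_le_card_of_injective _ hinj
    rw [c.hq j hj] at h1
    have h2 := AddSubgroup.card_eq_card_quotient_mul_card_addSubgroup K
    have hKe : K = fx V j := by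
      refine eq_of_le_of_card_le hKle (Nat.le_of_mul_le_mul_right ?_ c.q_pos)
      rw [c.card_fx hj, h2, mul_comm]
      exact Nat.mul_le_mul_left _ h1
    refine hne (eq_of_le_of_card_le (fun z hz => ?_) (le_of_eq ?_))
    · have hz' := (hKmem z).1 (hKe.symm ▸ hz)
      rw [mem_fx.1 hz, sub_self, sub_zero] at hz'
      exact mem_fx.2 (sub_eq_zero.1 (hmk0 _ hz'.2 (sub_mem_im k z)))
    · exact Nat.eq_of_mul_eq_mul_right c.q_pos ((c.card_fx hk).trans (c.card_fx hj).symm)
  set s := (k • x0 - x0) - (j • x0 - x0) with hs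
  have hjkx0 : (j * k) • x0 = x0 + s := by
    have h1 : j • (k • x0 - x0) = k • x0 - x0 := mem_fx.1 (hik (sub_mem_im k x0))
    rw [smul_sub] at h1
    have h2 := c.ctx.neg_eq_self hp (j • x0 - x0)
    rw [hs, sub_eq_add_neg _ (j • x0 - x0), h2, mul_smul, sub_eq_iff_eq_add.1 h1]
    abel
  have hs0 : s ≠ 0 := fun e => by
    rw [hs, sub_eq_zero] at e
    have hz : k • x0 - x0 ∈ im V j := e ▸ sub_mem_im j x0
    have h0 := (c.ctx.im_inter_eq_zero hj hk hz (sub_mem_im k x0)).resolve_right hjk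
    exact hx0 (mem_fx.2 (sub_eq_zero.1 (e ▸ h0)))
  -- choose `h`
  obtain ⟨h, hh, hjh, hkh, hhs, hhx⟩ : ∃ h : H, Refl V h ∧ j * h ≠ h * j ∧ k * h ≠ h * k ∧
      h • s = s ∧ h • x0 - x0 ≠ 0 := by
    by_cases hm0 : x0 ∈ fx V m
    swap
    · exact ⟨m, hm, hjm.ncomm, hcm, mem_fx.1 hy0.2, fun e => hm0 (mem_fx.2 (sub_eq_zero.1 e))⟩
    have hki := c.ctx.inv_eq hk
    refine ⟨k * m * k⁻¹, hm.conj k, fun e => hjm.ncomm ?_, fun e => hcm ?_, ?_, fun e => ?_⟩
    · rw [hki] at e
      have e' : k * (j * m) * k = k * (m * j) * k := by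
        calc k * (j * m) * k = j * (k * m * k) := by
              simp only [← mul_assoc]; rw [hc]
          _ = k * m * k * j := e
          _ = k * (m * j) * k := by simp only [mul_assoc]; rw [hc]
      exact mul_left_cancel (mul_right_cancel e')
    · rw [hki] at e
      have e' : k * (k * m) * k = k * (m * k) * k := by
        calc k * (k * m) * k = k * (k * m * k) := by simp only [mul_assoc]
          _ = k * m * k * k := e
          _ = k * (m * k) * k := by simp only [mul_assoc]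
      exact mul_left_cancel (mul_right_cancel e')
    · have hks : k⁻¹ • s = s := by rw [inv_smul_eq_iff, mem_fx.1 hy0.1.2]
      rw [mul_smul, mul_smul, hks, mem_fx.1 hy0.2, mem_fx.1 hy0.1.2]
    · rw [sub_eq_zero, hki, mul_smul, mul_smul] at e
      have hkx : k • x0 ∈ fx V m := by
        rw [mem_fx]
        have := congrArg (k • ·) e
        simpa [c.ctx.smul_smul_self hk] using this
      have h0 := hmk0 _ (AddSubgroup.sub_mem _ hkx hm0) (sub_mem_im k x0)
      apply hx0
      have : s = -(j • x0 - x0) := by rw [hs, h0, zero_sub]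
      have hmem : s ∈ im V j := this ▸ AddSubgroup.neg_mem _ (sub_mem_im j x0)
      exact absurd (hmj0 _ hy0.2 hmem) hs0
  obtain ⟨G, hG⟩ := c.ctx.exists_shift s
  have hGx : G • x0 = x0 + s := hG x0 _ hjkx0
  have hG1 : G ≠ 1 := fun e => hs0 (by rw [e, one_smul, left_eq_add] at hGx; exact hGx)
  obtain ⟨k2, hk2, hle⟩ := exists_refl_above (V := V) hG1
  have hP : fx V j ⊓ fx V k ≤ fx V k2 := by
    rintro w ⟨hw1, hw2⟩
    refine hle (mem_fx.2 ?_)
    have := hG (x0 + w) (j * k) (by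
      rw [smul_add, hjkx0, mul_smul, mem_fx.1 hw2, mem_fx.1 hw1]; abel)
    rw [smul_add, hGx] at this
    exact add_left_cancel (this.trans (add_right_comm x0 w s))
  have hz : h • x0 - x0 ∈ fx V k2 := by
    refine hle (mem_fx.2 ?_)
    have := hG (h • x0) (h * (j * k) * h⁻¹) (by
      rw [mul_smul, mul_smul, inv_smul_smul, hjkx0, smul_add, hhs])
    rw [smul_sub, hGx, this]; abel
  have hjk2le : im V j ≤ fx V k2 := (le_inf (c.ctx.im_le_fx_of_two hp hj) hij).trans hP
  obtain ⟨i0, hi0⟩ := hj.exists_im_ne (V := V)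
  have hcj : k2 * j = j * k2 :=
    c.ctx.comm_of_mem hk2 hj hi0 (sub_mem_im j i0) (hjk2le (sub_mem_im j i0))
  have hch : k2 * h = h * k2 := c.ctx.comm_of_mem hk2 hh hhx (sub_mem_im h x0) hz
  have hne2 : fx V j ≠ fx V k2 := fun e =>
    hjh (c.ctx.comm_of_mem hj hh hhx (sub_mem_im h x0) (e ▸ hz))
  have hk2h : k2 ≠ h := fun e => hjh (e ▸ hcj.symm)
  refine c.no_exact hp hj hk2 hcj.symm hne2 (top_le_iff.1 ?_)
  rw [← c.ctx.nc_sup ⟨hj, hh, hjh⟩]
  exact sup_le_sup_left (c.ctx.im_le_fx hk2 hh hk2h hch) _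

/-- In characteristic two every nondegenerate intersection is trivial. -/
lemma nondeg_bot_two (hp : p = 2) {X : AddSubgroup V} (hX : Nondeg H X) : X = ⊥ := by
  rw [AddSubgroup.eq_bot_iff_forall]
  intro v hv
  obtain ⟨a, b, hab⟩ := c.exists_nc
  refine c.ctx.eq_zero_of_all_fixed hab.left fun g hg => ?_
  have hle : X ≤ fx V g := by
    obtain ⟨x, hx⟩ := hg.exists_im_ne (V := V)
    obtain ⟨r, hr, hXr, hxr⟩ := c.cover hX (g • x - x)
    rcases eq_or_ne r g with rfl | hne
    · exact hXr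
    rw [← c.fx_eq_of_comm hp hr hg (c.ctx.comm_of_mem hr hg hx (sub_mem_im g x) hxr)]
    exact hXr
  exact mem_fx.1 (hle hv)

end NCtx

end Cfsg.Agent.BinaryAffine
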